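import Cfsg.Agent.MK.G.Tools

/-!
# MK-G: central extensions (helper76)

All data lift along a central extension `f : Y →* S` of order prime to `2 p`: `mainI`, `mainC`.
-/

set_option autoImplicit false
set_option linter.unusedSectionVars false

namespace Cfsg.Agent.MK.G

open Cfsg Subgroup CoxeterSystem Cfsg.Agent.ChevalleyStructure.CoxeterGeom Cfsg.Agent.Tits.Roots Cfsg.Agent.Nodes.Reps
  Cfsg.Agent.Nodes.BNOf Cfsg.Agent.Nodes.Bruhat Cfsg.Agent.Nodes.RGDLift Cfsg.Agent.KFacts.RgdAut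
  Cfsg.Agent.KFacts.RgdDiag Cfsg.Agent.ClosedExc.Frame Cfsg.Agent.ODD.QB Cfsg.Agent.ODD.Cv
open scoped commutatorElement

section aut

variable {Y S : Type} [Group Y] [Group S] {f : Y →* S}

theorem exists_ind (hs : Function.Surjective f) {γ : MulAut Y} (hγ : ∀ z ∈ f.ker, γ z = z) :
    ∃ δ : MulAut S, ∀ y, δ (f y) = f (γ y) := by
  have key : ∀ γ : MulAut Y, (∀ z ∈ f.ker, γ z = z) → ∃ δ : S →* S, ∀ y, δ (f y) = f (γ y) := fun γ hγ =>
    ⟨f.liftOfRightInverse _ (Function.rightInverse_surjInv hs) ⟨f.comp γ.toMonoidHom, fun z hz => by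
      show f (γ z) = 1
      rw [hγ z hz]
      exact hz⟩, fun y => MonoidHom.liftOfRightInverse_comp_apply _ _ _ _ y⟩
  obtain ⟨a, ha⟩ := key γ hγ
  obtain ⟨b, hb⟩ := key γ⁻¹ fun z hz => by rw [MulAut.inv_def, MulEquiv.symm_apply_eq, hγ z hz]
  refine ⟨{ a with
    invFun := b
    left_inv := fun s => ?_
    right_inv := fun s => ?_ }, ha⟩
  · obtain ⟨y, rfl⟩ := hs s
    exact (congrArg b (ha y)).trans ((hb _).trans (by rw [MulAut.inv_apply_self]))
  · obtain ⟨y, rfl⟩ := hs s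
    exact (congrArg a (hb y)).trans ((ha _).trans (by rw [MulAut.apply_inv_self]))

theorem eq_one_of_ind (hY : commutator Y = ⊤) (hf : f.ker ≤ center Y) {γ : MulAut Y} (hγ : ∀ y, f (γ y) = f y) :
    γ = 1 := by
  have h1 : ∀ y, ∃ z ∈ center Y, γ y = z * y := fun y =>
    ⟨γ y * y⁻¹, hf (by rw [MonoidHom.mem_ker, map_mul, map_inv, hγ, mul_inv_cancel]), by group⟩
  have h2 : commutator Y ≤ γ.toMonoidHom.eqLocus (MonoidHom.id Y) := by
    rw [commutator_def, commutator_le]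
    intro a _ b _
    obtain ⟨z, hz, e⟩ := h1 a
    obtain ⟨z', hz', e'⟩ := h1 b
    show γ ⁅a, b⁆ = ⁅a, b⁆
    rw [map_commutatorElement, e, e', commutatorElement_def, commutatorElement_def]
    calc z * a * (z' * b) * (z * a)⁻¹ * (z' * b)⁻¹ = z * (a * z' * (b * a⁻¹)) * z⁻¹ * b⁻¹ * z'⁻¹ := by group
      _ = a * b * a⁻¹ * b⁻¹ := by
        rw [← mem_center_iff.1 hz, mul_inv_cancel_right, mem_center_iff.1 hz', mul_assoc z', mul_assoc z',
          ← mem_center_iff.1 hz', mul_inv_cancel_right, mul_assoc a b]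
  ext y
  exact h2 (hY ▸ mem_top y)

end aut

variable {I W Y S ι : Type} [Fintype I] [DecidableEq I] [Group W] [Finite W] [Group Y] [Finite Y] [Group S] [Finite S]
  [Fintype ι] {M : CoxeterMatrix I} {cs : CoxeterSystem M W} {A : I → I → ℤ} {h : IsCartan M A} {p : ℕ}
  [Fact p.Prime] {T : Subgroup S} {n : I → S} {X : (I → ℤ) → Subgroup S} {β : ι → I → ℤ} {f : Y →* S} (E : CE p f)

include E

theorem comm_lift {g y : Y} {k : ℕ} (hy : y ^ p ^ k = 1) (hc : f g * f y = f y * f g) : g * y = y * g := by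
  have h1 : f (g * y * g⁻¹ * y⁻¹) = 1 := by
    rw [map_mul, map_mul, map_mul, map_inv, map_inv, hc, mul_inv_cancel_right, mul_inv_cancel]
  have h2 : Commute (g * y * g⁻¹) y⁻¹ := by
    have h3 := mem_center_iff.1 (E.cen h1) y⁻¹
    rw [← mul_assoc, mul_left_inj] at h3
    exact h3.symm
  have h3 := eq_one_of_ker E.cop h1 (k := k) (by
    rw [h2.mul_pow, conj_pow, inv_pow, hy, mul_one, mul_inv_cancel, inv_one, mul_one])
  rwa [mul_inv_eq_one, mul_inv_eq_iff_eq_mul] at h3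

theorem mem_zc_lft {P : Subgroup S} (hP : IsPGroup p P) {y : Y} :
    y ∈ zc (lft p f P) ↔ f y ∈ zc P ∧ ∃ k : ℕ, y ^ p ^ k = 1 := by
  rw [mem_zc, mem_zc, mem_lft E.cen hP]
  refine ⟨fun ⟨⟨h1, h2⟩, h3⟩ => ⟨⟨h1, fun x hx => ?_⟩, h2⟩, fun ⟨⟨h1, h2⟩, k, hk⟩ => ⟨⟨h1, k, hk⟩, fun x hx => ?_⟩⟩
  · rw [← map_lft E.cen E.cop E.surj hP] at hx
    obtain ⟨x, hx, rfl⟩ := hx
    rw [← map_mul, h3 x hx, map_mul]
  · exact comm_lift E hk (h2 _ ((mem_lft E.cen hP).1 hx).1)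

theorem map_zc {P : Subgroup S} (hP : IsPGroup p P) : (zc (lft p f P)).map f = zc P := by
  apply le_antisymm
  · rintro _ ⟨y, hy, rfl⟩
    exact ((mem_zc_lft E hP).1 hy).1
  · intro s hs
    obtain ⟨y, hy, rfl⟩ : s ∈ (lft p f P).map f := by rw [map_lft E.cen E.cop E.surj hP]; exact hs.1
    exact ⟨y, (mem_zc_lft E hP).2 ⟨hs, ((mem_lft E.cen hP).1 hy).2⟩, rfl⟩

theorem iff_lft {P Q : Subgroup S} (hP : IsPGroup p P) (hQ : IsPGroup p Q) {γ : MulAut Y} {δ : MulAut S}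
    (e : ∀ y, δ (f y) = f (γ y)) : (∀ y, γ y ∈ lft p f Q ↔ y ∈ lft p f P) ↔ ∀ s, δ s ∈ Q ↔ s ∈ P := by
  refine ⟨fun H s => ⟨fun hs => ?_, fun hs => ?_⟩, fun H y => ?_⟩
  · rw [← map_lft E.cen E.cop E.surj hQ] at hs
    obtain ⟨z, hz, h1⟩ := hs
    obtain ⟨y, rfl⟩ := γ.surjective z
    rw [← δ.injective ((e y).trans h1)]
    exact ((mem_lft E.cen hP).1 ((H y).1 hz)).1
  · rw [← map_lft E.cen E.cop E.surj hP] at hs
    obtain ⟨y, hy, rfl⟩ := hs
    rw [e]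
    exact ((mem_lft E.cen hQ).1 ((H y).2 hy)).1
  · rw [mem_lft E.cen hP, mem_lft E.cen hQ, ← e, H]
    refine and_congr_right fun _ => exists_congr fun k => ?_
    rw [← map_pow, map_eq_one_iff _ γ.injective]

variable {R : RGD cs h p T n X} {m : I → Y} (hm : ∀ i, f (m i) = n i)
  (R' : RGD cs h p (T.comap f) m fun x => lft p f (X x))

include hm

omit E in
theorem rp_iff {w : W} {g : Y} : Rp cs R'.nsys w g ↔ Rp cs R.nsys w (f g) := by
  refine ⟨rp_map hm _ _, fun hg => ?_⟩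
  obtain ⟨k, hk⟩ := exists_rp cs R'.nsys w
  have h1 := hk.mul_mem_right (t := k⁻¹ * g) (by
    rw [mem_comap, map_mul, map_inv]
    exact (rp_map hm _ R.nsys hk).unique hg)
  rwa [mul_inv_cancel_left] at h1

omit E in
theorem NP_lift (P : Subgroup W) : NP R' P = (NP R P).comap f :=
  Subgroup.ext fun _ => exists_congr fun _ => and_congr_right fun _ => rp_iff (R := R) hm R'

omit hm R' in
theorem map_LZ (R : RGD cs h p T n X) {x : I → ℤ} (hx : IsRoot cs h x) :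
    (LZ (fun x => lft p f (X x)) x).map f = LZ X x :=
  (map_sup _ _ f).trans (congrArg₂ (· ⊔ ·) (map_zc E (R.pgrp' hx)) (map_zc E (R.pgrp' hx.neg)))

theorem MM_lift (hr : ∀ a, IsRoot cs h (β a)) : MM R' β = (MM R β).comap f := by
  have h1 : (MM R' β).map f = MM R β := by
    rw [MM_def, MM_def, Subgroup.map_sup, Subgroup.map_iSup, iSup_congr fun a => map_LZ E R (hr a), NP_lift (R := R) hm,
      map_comap_eq_self_of_surjective E.surj]
  rw [← h1, comap_map_eq_self]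
  exact fun z hz => T_le_MM (by rw [mem_comap, MonoidHom.mem_ker.1 hz]; exact one_mem _)

theorem GD.lift (D : GD R β) : GD R' β := by
  refine ⟨D.prime, D.odd, ?_, D.root, fun a y hy h1 => ?_, fun a b hab u hu v hv => ?_, D.weyl, ?_, fun h1 => D.ne ?_⟩
  · have h1 : GG cs h T X ≤ (GG cs h (T.comap f) fun x => lft p f (X x)).map f := by
      refine sup_le (fun t ht => ?_) (RGD.Sup_le fun x hx => ?_)
      · obtain ⟨y, rfl⟩ := E.surj t
        exact ⟨y, T_le_GG (T := T.comap f) ht, rfl⟩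
      · rw [← map_lft E.cen E.cop E.surj (R.pgrp' hx)]
        exact map_mono (X_le_GG (X := fun x => lft p f (X x)) hx)
    refine eq_top_iff.2 fun y _ => ?_
    obtain ⟨x, hx, e⟩ := h1 (D.top ▸ mem_top (f y))
    have h2 : x⁻¹ * y ∈ T.comap f := by
      rw [mem_comap, map_mul, map_inv, e, inv_mul_cancel]
      exact one_mem _
    exact (Subgroup.mul_mem_cancel_left _ (inv_mem hx)).1 (T_le_GG h2)
  · obtain ⟨h2, k, hk⟩ := (mem_zc_lft E (R.pgrp' (D.root a).neg)).1 hy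
    obtain ⟨u, hu, v, hv, w, hw⟩ := D.rk a _ h2 fun h3 => h1 (eq_one_of_ker E.cop h3 hk)
    rw [← map_zc E (R.pgrp' (D.root a))] at hu hv
    obtain ⟨u, hu, rfl⟩ := hu
    obtain ⟨v, hv, rfl⟩ := hv
    exact ⟨u, hu, v, hv, w, (rp_iff (R := R) hm R').2 (by rwa [map_mul, map_mul])⟩
  · have h1 : f u ∈ LZ X (β a) := map_LZ E R (D.root a) ▸ mem_map_of_mem f hu
    have h2 : LZ (fun x => lft p f (X x)) (β b) ≤ centralizer {u} := by
      refine sup_le (fun y hy => ?_) fun y hy => ?_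
      · obtain ⟨h3, k, hk⟩ := (mem_zc_lft E (R.pgrp' (D.root b))).1 hy
        exact mem_centralizer_singleton_iff.2 (comm_lift E hk (D.orth a b hab _ h1 _ (mem_sup_left h3)).eq).symm
      · obtain ⟨h3, k, hk⟩ := (mem_zc_lft E (R.pgrp' (D.root b).neg)).1 hy
        exact mem_centralizer_singleton_iff.2 (comm_lift E hk (D.orth a b hab _ h1 _ (mem_sup_right h3)).eq).symm
    exact (mem_centralizer_singleton_iff.1 (h2 hv)).symm
  · obtain ⟨Q, hQ⟩ := D.syl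
    obtain ⟨P, rfl⟩ := Sylow.mapSurjective_surjective E.surj 2 Q
    rw [MM_lift (R := R) E hm R' D.root]
    exact ⟨P, fun g hg => hQ (le_normalizer_map f (mem_map_of_mem f hg))⟩
  · rw [MM_lift (R := R) E hm R' D.root] at h1
    rw [← map_comap_eq_self_of_surjective E.surj (MM R β), h1, map_top_of_surjective _ E.surj]

theorem Au.lift (hr : ∀ a, IsRoot cs h (β a)) {Γ : Subgroup (MulAut Y)} (hΓ : ∀ γ ∈ Γ, ∀ z ∈ center Y, γ z = z)
    (H : Au R β (ind f Γ)) : Au R' β Γ := fun γ hγ σ D => by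
  obtain ⟨δ, e⟩ := exists_ind E.surj fun z hz => hΓ γ hγ z (E.cen hz)
  obtain ⟨g, ⟨w, hw⟩, h1⟩ := H δ ⟨γ, hγ, e⟩ σ ⟨fun s => by
      obtain ⟨y, rfl⟩ := E.surj s
      rw [e]
      exact D.tor y,
    fun i => (iff_lft E (R.pgrp i) (R.pgrp _) e).1 (D.pos i),
    fun i => (iff_lft E (R.pgrp' (isRoot_sr cs h i).neg) (R.pgrp' (isRoot_sr cs h _).neg) e).1 (D.neg i)⟩
  obtain ⟨g, rfl⟩ := E.surj g
  have e' : ∀ y, (MulAut.conj (f g) * δ) (f y) = f ((MulAut.conj g * γ) y) := fun y => by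
    rw [MulAut.mul_apply, MulAut.mul_apply, MulAut.conj_apply, MulAut.conj_apply, e, map_mul, map_mul, map_inv]
  have h2 : ∀ x y, IsRoot cs h x → IsRoot cs h y → Mv X (MulAut.conj (f g) * δ) x y →
      Mv (fun x => lft p f (X x)) (MulAut.conj g * γ) x y := fun x y hx hy H =>
    ⟨(iff_lft E (R.pgrp' hx) (R.pgrp' hy) e').2 H.1, (iff_lft E (R.pgrp' hx.neg) (R.pgrp' hy.neg) e').2 H.2⟩
  exact ⟨g, ⟨w, (rp_iff (R := R) hm R').2 hw⟩, fun a => (h1 a).imp fun b hb =>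
    hb.imp (h2 _ _ (hr a) (hr b)) (h2 _ _ (hr a) (hr b).neg)⟩

omit hm R' in
theorem NF.lift (R : RGD cs h p T n X) (hY : commutator Y = ⊤) {Γ : Subgroup (MulAut Y)} (H : NF cs h X (ind f Γ)) :
    NF cs h (fun x => lft p f (X x)) Γ := by
  obtain ⟨D, h1, h2, h3, h4⟩ := H
  let D' : Subgroup (MulAut Y) :=
    { carrier := {γ | γ ∈ Γ ∧ ∃ δ ∈ D, ∀ y, δ (f y) = f (γ y)}
      one_mem' := ⟨one_mem _, 1, one_mem _, fun _ => rfl⟩
      mul_mem' := fun ⟨a1, a, a2, a3⟩ ⟨b1, b, b2, b3⟩ => ⟨mul_mem a1 b1, a * b, mul_mem a2 b2, fun y => by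
        rw [MulAut.mul_apply, b3, a3, MulAut.mul_apply]⟩
      inv_mem' := fun ⟨a1, a, a2, a3⟩ => ⟨inv_mem a1, a⁻¹, inv_mem a2, fun y => a.injective (by
        rw [MulAut.apply_inv_self, a3, MulAut.apply_inv_self])⟩ }
  refine ⟨D', fun _ hγ => hγ.1, ?_, ?_, fun x hx u hu h5 => ?_⟩
  · rintro ⟨γ, hγ, δ, hδ, e⟩
    obtain ⟨k, hk⟩ := h2 ⟨δ, hδ⟩
    have h5 : ∀ (j : ℕ) y, (δ ^ j) (f y) = f ((γ ^ j) y) := fun j => by
      induction j with
      | zero => exact fun _ => rfl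
      | succ j ih => exact fun y => by rw [pow_succ, pow_succ, MulAut.mul_apply, MulAut.mul_apply, e, ih]
    refine ⟨k, Subtype.ext (eq_one_of_ind hY E.cen fun y => ?_)⟩
    have h6 : δ ^ 2 ^ k = 1 := congrArg Subtype.val hk
    exact (h5 _ y).symm.trans (by rw [h6]; rfl)
  · rintro γ ⟨-, δ, hδ, e⟩ x hx
    exact (iff_lft E (R.pgrp' hx) (R.pgrp' hx) e).2 (h3 δ hδ x hx)
  · obtain ⟨h6, k, hk⟩ := (mem_lft E.cen (R.pgrp' hx)).1 hu
    refine eq_one_of_ker E.cop (h4 x hx _ h6 fun δ hδ => ?_) hk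
    obtain ⟨γ, hγ, e⟩ := h1 hδ
    rw [e, h5 γ ⟨hγ, δ, hδ, e⟩]

omit E hm R' in
/-- **The generic theorem for a cover, general form.** -/
theorem mainI (H : Steps) : MainI := by
  intro I W S ι _ _ _ _ _ _ _ M cs A h p T n X R β D Y _ _ f E Γ c hA hnf
  have : Fact p.Prime := ⟨D.prime⟩
  choose m hm using fun i => E.surj (n i)
  have R' := rgd_lift E.cen E.cop E.surj R hm
  exact gd_of H c (D.lift E hm R') (hA.lift E hm R' D.root c.fix) (hnf.lift E R c.qs.1.commutator_eq_top)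

omit E hm R' in
/-- **The generic theorem for a cover.** -/
theorem mainC (H : Steps) : MainC := by
  intro I W S ι _ _ _ _ _ _ _ M cs A h p T n X R β D hA hc hnf Y _ _ f E Γ c
  refine mainI H R β D Y f E Γ c (hA.mono le_top) (nf_of_noFix R hc hnf fun t _ => ?_)
  obtain ⟨y, rfl⟩ := E.surj t
  exact ⟨_, c.inn y, fun x => by rw [MulAut.conj_apply, MulAut.conj_apply, map_mul, map_mul, map_inv]⟩

end Cfsg.Agent.MK.G
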