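import Cfsg.Agent.MK.Defs
import Cfsg.Agent.ODD.QB.Aut

/-!
# MK-G: the abstract part (helper76)

* `PY U N len` : the axioms of `YD` without the cover; `PY.yd : YD (U ⊔ N) U N len`;
* `In_sup`, `nm_le` (Frattini argument), `gd_of_yx` : the chain of the three steps.
-/

set_option autoImplicit false
set_option linter.unusedSectionVars false

namespace Cfsg.Agent.MK.G

open Cfsg Subgroup Cfsg.Agent.H55.Sd Cfsg.Agent.ODD.QB

section yd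

variable {G : Type} [Group G] {U N : Subgroup G} {len : G → ℕ}

/-- the axioms of `YD` without the cover -/
structure PY (U N : Subgroup G) (len : G → ℕ) : Prop where
  uniq : ∀ n ∈ N, ∀ n' ∈ N, ∀ u ∈ U, ∀ v ∈ U, u * n * v = n' → n = n'
  one : len 1 = 0
  inv : ∀ n ∈ N, len n⁻¹ = len n
  zero : ∀ t ∈ N, len t = 0 → (∀ u ∈ U, t * u * t⁻¹ ∈ U) ∧ ∀ n ∈ N, len (t * n) = len n
  step : ∀ s ∈ N, len s = 1 → ∀ n ∈ N, len (s * n) = len n + 1 ∨ len (s * n) + 1 = len n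
  desc : ∀ n ∈ N, len n ≠ 0 → ∃ s ∈ N, len s = 1 ∧ len (s * n) + 1 = len n
  up : ∀ s ∈ N, len s = 1 → ∀ n ∈ N, len (s * n) = len n + 1 → ∀ u ∈ U, ∃ u' ∈ U, ∃ v ∈ U, s * u * n = u' * (s * n) * v
  quad : ∀ s ∈ N, len s = 1 → ∀ u ∈ U, s * u * s⁻¹ ∈ U ∨
    ∃ t ∈ N, len t = 0 ∧ ∃ u' ∈ U, ∃ v ∈ U, s * u * s⁻¹ = u' * (t * s⁻¹) * v

theorem PY.cover (P : PY U N len) : ∀ g ∈ U ⊔ N, ∃ u ∈ U, ∃ n ∈ N, ∃ v ∈ U, g = u * n * v := by
  let C : G → Prop := fun g => ∃ u ∈ U, ∃ n ∈ N, ∃ v ∈ U, g = u * n * v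
  have h1 : ∀ r ∈ N, len r = 1 → ∀ g, C g → C (r * g) := by
    rintro r hr hl _ ⟨u, hu, n, hn, v, hv, rfl⟩
    rcases P.step r hr hl n hn with h | h
    · obtain ⟨u', hu', v', hv', e⟩ := P.up r hr hl n hn h u hu
      exact ⟨u', hu', r * n, mul_mem hr hn, v' * v, mul_mem hv' hv, by rw [← mul_assoc _ v', ← e]; group⟩
    · rcases P.quad r hr hl u hu with h2 | ⟨t, ht, hl0, u', hu', v', hv', e⟩
      · exact ⟨_, h2, r * n, mul_mem hr hn, v, hv, by group⟩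
      · obtain ⟨u'', hu'', v'', hv'', e'⟩ := P.up r⁻¹ (inv_mem hr) (by rw [P.inv r hr, hl]) (r * n) (mul_mem hr hn)
          (by rw [inv_mul_cancel_left, h]) v' hv'
        refine ⟨u' * (t * u'' * t⁻¹), mul_mem hu' ((P.zero t ht hl0).1 _ hu''), t * n, mul_mem ht hn, v'' * v,
          mul_mem hv'' hv, ?_⟩
        calc r * (u * n * v) = r * u * r⁻¹ * (r * n) * v := by group
          _ = u' * t * (r⁻¹ * v' * (r * n)) * v := by rw [e]; group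
          _ = _ := by rw [e']; group
  have h2 : ∀ (k : ℕ), ∀ s ∈ N, len s = k → ∀ g, C g → C (s * g) := by
    intro k
    induction k with
    | zero =>
      rintro s hs hl _ ⟨u, hu, n, hn, v, hv, rfl⟩
      exact ⟨_, (P.zero s hs hl).1 u hu, s * n, mul_mem hs hn, v, hv, by group⟩
    | succ k ih =>
      intro s hs hl g hg
      obtain ⟨r, hr, hr1, e⟩ := P.desc s hs (by omega)
      have h3 := h1 r⁻¹ (inv_mem hr) (by rw [P.inv r hr, hr1]) _ (ih (r * s) (mul_mem hr hs) (by omega) g hg)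
      rwa [mul_assoc, inv_mul_cancel_left] at h3
  have h3 : ∀ x, x ∈ U ∨ x ∈ N → ∀ g, C g → C (x * g) := by
    rintro x (hx | hx) g hg
    · obtain ⟨u, hu, n, hn, v, hv, rfl⟩ := hg
      exact ⟨x * u, mul_mem hx hu, n, hn, v, hv, by group⟩
    · exact h2 _ x hx rfl g hg
  intro g hg
  rw [sup_eq_closure] at hg
  induction hg using closure_induction_left with
  | one => exact ⟨1, one_mem _, 1, one_mem _, 1, one_mem _, by group⟩
  | mul_left x hx y _ ih => exact h3 x hx y ih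
  | inv_mul_cancel x hx y _ ih => exact h3 x⁻¹ (hx.imp inv_mem inv_mem) y ih

theorem PY.yd (P : PY U N len) : YD (U ⊔ N) U N len :=
  ⟨le_sup_left, le_sup_right, P.cover, P.uniq, P.one, P.inv, P.zero, P.step, P.desc, P.up, P.quad⟩

end yd

section chain

variable {X : Type} [Group X]

theorem mem_In {Λ : Subgroup (MulAut X)} {x : X} : x ∈ In Λ ↔ MulAut.conj x ∈ Λ := Iff.rfl

theorem conj_mem_Cj {H : Subgroup X} {x : X} (hx : x ∈ H) : MulAut.conj x ∈ Cj H := ⟨x, hx, rfl⟩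

theorem exists_of_sup {Θ : Subgroup (MulAut X)} {H : Subgroup X} (hn : ∀ α ∈ Θ, ∀ x ∈ H, α x ∈ H) {α : MulAut X}
    (hα : α ∈ Cj H ⊔ Θ) : ∃ x ∈ H, ∃ β ∈ Θ, α = MulAut.conj x * β := by
  obtain ⟨_, ⟨x, hx, rfl⟩, β, hβ, e⟩ := exists_mul_of_sup (K := Cj H) (R := Θ) (by
    rintro β hβ _ ⟨x, hx, rfl⟩
    exact ⟨β x, hn β hβ x hx, conj_map β x⟩) hα
  exact ⟨x, hx, β, hβ, e⟩

theorem In_sup {Θ : Subgroup (MulAut X)} {H : Subgroup X} (hn : ∀ α ∈ Θ, ∀ x ∈ H, α x ∈ H) (hi : In Θ ≤ H) :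
    In (Cj H ⊔ Θ) = H := by
  refine le_antisymm (fun y hy => ?_) fun x hx => mem_sup_left (conj_mem_Cj hx)
  obtain ⟨x, hx, β, hβ, e⟩ := exists_of_sup hn hy
  have h1 : x⁻¹ * y ∈ In Θ := by
    rw [mem_In, map_mul, map_inv, e, inv_mul_cancel_left]
    exact hβ
  exact (H.mul_mem_cancel_left (inv_mem hx)).1 (hi h1)

theorem YX.map_H {Γ Θ : Subgroup (MulAut X)} {H U N : Subgroup X} {len : X → ℕ} (Y : YX Γ Θ H U N len) :
    ∀ α ∈ Θ, ∀ x ∈ H, α x ∈ H := fun α hα x hx => by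
  obtain ⟨u, hu, n, hn, v, hv, rfl⟩ := Y.yd.cover x hx
  rw [map_mul, map_mul]
  exact mul_mem (mul_mem (Y.yd.uH (Y.hU α hα u hu)) (Y.yd.nH (Y.hN α hα n hn).1)) (Y.yd.uH (Y.hU α hα v hv))

theorem YX.in_N {Γ Θ : Subgroup (MulAut X)} {H U N : Subgroup X} {len : X → ℕ} (Y : YX Γ Θ H U N len) :
    In (Cj N ⊔ Θ) = N := In_sup (fun α hα x hx => (Y.hN α hα x hx).1) fun x hx => ((Y.inn x).1 hx).1

theorem YX.in_H {Γ Θ : Subgroup (MulAut X)} {H U N : Subgroup X} {len : X → ℕ} (Y : YX Γ Θ H U N len) :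
    In (Cj H ⊔ Θ) = H := In_sup (YX.map_H Y) fun x hx => Y.yd.nH ((Y.inn x).1 hx).1

theorem Supp.mono {Γ Θ Λ : Subgroup (MulAut X)} (S : Supp Γ Θ) (h1 : Θ ≤ Λ) (h2 : Λ ≤ Γ) : Supp Γ Λ :=
  ⟨h2, fun α hα => (S.sup α hα).imp fun _ h => h.imp fun _ h => ⟨h1 h.1, h.2⟩⟩

variable [Finite X]

/-- **The Frattini argument.** -/
theorem nm_le {Λ Λ' : Subgroup (MulAut X)} (S : Supp Λ Λ') {Q : Subgroup X} (hQ : Q ≤ In Λ') (h2 : IsPGroup 2 Q)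
    (ho : Odd (Q.relIndex (In Λ'))) (hN : ∀ x ∈ In Λ, x ∈ normalizer (Q : Set X) → x ∈ In Λ') : Nm Λ Q ≤ Λ' := by
  rintro α ⟨hα, hαQ⟩
  obtain ⟨x, β, hβ, rfl⟩ := S.sup α hα
  obtain ⟨y, hy, h3⟩ := exists_conj_le hQ h2 ho (R := Q.map β.toMonoidHom) (by
    rintro _ ⟨q, hq, rfl⟩
    exact map_mem_In hβ (hQ hq)) (h2.map _)
  have h4 : MulAut.conj y⁻¹ * β ∈ Λ' := mul_mem (inv_mem hy : y⁻¹ ∈ In Λ') hβ
  have e : MulAut.conj x * β = MulAut.conj (x * y) * (MulAut.conj y⁻¹ * β) := by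
    rw [map_mul, map_inv]; group
  have h5 : x * y ∈ In Λ := by
    rw [e] at hα
    exact (Λ.mul_mem_cancel_right (S.le h4)).1 hα
  have h6 : (x * y)⁻¹ ∈ normalizer (Q : Set X) := by
    refine mem_normalizer_fintype fun q hq => ?_
    have h7 := h3 _ ⟨(MulAut.conj x * β)⁻¹ q, (hαQ _).1 (by rwa [MulAut.apply_inv_self]), rfl⟩
    have e2 : β.toMonoidHom ((MulAut.conj x * β)⁻¹ q) = x⁻¹ * q * x := by
      rw [mul_inv_rev, MulAut.mul_apply, ← map_inv, MulAut.conj_apply, inv_inv]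
      exact MulAut.apply_inv_self _ _ _
    rw [e2] at h7
    rwa [show (x * y)⁻¹ * q * (x * y)⁻¹⁻¹ = y⁻¹ * (x⁻¹ * q * x) * y by group]
  rw [e]
  exact mul_mem (hN _ h5 ((inv_mem_iff).1 h6)) h4

/-- **The chain.** -/
theorem gd_of_yx (hI : StepI) (hY : StepY) {Γ Θ Θ' : Subgroup (MulAut X)} (c : Sit X Γ) {U N M U' N' : Subgroup X}
    {len len' : X → ℕ} (Y : YX Γ Θ ⊤ U N len) (Y' : YX Γ Θ' M U' N' len') (hN : N ≠ ⊤) (hM : M ≠ ⊤)
    (hle : Cj N' ⊔ Θ' ≤ Cj N ⊔ Θ)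
    (hS : ∃ Q ≤ N', IsPGroup 2 Q ∧ Odd (Q.relIndex N) ∧ ∀ x ∈ N, x ∈ normalizer (Q : Set X) → x ∈ N')
    (hQ : ∃ Q : Sylow 2 X, normalizer ((Q : Subgroup X) : Set X) ≤ M) : Gd X Γ := by
  have hC : ∀ H : Subgroup X, Cj H ≤ Γ := by
    rintro H _ ⟨x, -, rfl⟩
    exact c.inn x
  have hne : ∀ Λ : Subgroup (MulAut X), In Λ ≠ ⊤ → Λ ≠ Γ := by
    rintro Λ h rfl
    exact h (eq_top_iff.2 fun x _ => c.inn x)
  have hΓ : Cj ⊤ ⊔ Θ = Γ := le_antisymm (sup_le (hC _) Y.supp.le) fun α hα => by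
    obtain ⟨x, β, hβ, rfl⟩ := Y.supp.sup α hα
    exact mul_mem (mem_sup_left (conj_mem_Cj (mem_top x))) (mem_sup_right hβ)
  have S1 : Supp Γ (Cj N ⊔ Θ) := Supp.mono Y.supp le_sup_right (sup_le (hC _) Y.supp.le)
  have S2 : Supp Γ (Cj M ⊔ Θ') := Supp.mono Y'.supp le_sup_right (sup_le (hC _) Y'.supp.le)
  have S3 : Supp (Cj N ⊔ Θ) (Cj N' ⊔ Θ') :=
    ⟨hle, fun α hα => (Y'.supp.sup α (S1.le hα)).imp fun _ h => h.imp fun _ h => ⟨mem_sup_right h.1, h.2⟩⟩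
  obtain ⟨P, hP, hP2, hPo, hPn⟩ := hS
  have hNN : N' ≤ N := by
    rw [← YX.in_N Y, ← YX.in_N Y']
    exact comap_mono hle
  have E1 := hY X Γ Θ ⊤ U N len c Y
  have E2 := hI X Γ _ _ P c S1 (hne _ (by rwa [YX.in_N Y])) hle (by rw [YX.in_N Y]; exact hP.trans hNN) hP2
    (by rwa [YX.in_N Y]) (nm_le S3 (by rwa [YX.in_N Y']) hP2 (by
      rw [YX.in_N Y']
      refine hPo.of_dvd_nat ?_
      rw [← relIndex_mul_relIndex _ _ _ hP hNN]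
      exact dvd_mul_right _ _) (by rwa [YX.in_N Y, YX.in_N Y']))
  have E3 := hY X Γ Θ' M U' N' len' c Y'
  rw [hΓ] at E1
  obtain ⟨Q, hQ⟩ := hQ
  have hQM : (Q : Subgroup X) ≤ M := le_normalizer.trans hQ
  refine ⟨_, Q, S2.le, hne _ (by rwa [YX.in_H Y']), nm_le S2 (by rwa [YX.in_H Y']) Q.isPGroup' ?_
    (by rw [YX.in_H Y']; exact fun x _ hx => hQ hx), (E1.trans E2).trans E3.symm⟩
  rw [YX.in_H Y', ← Nat.not_even_iff_odd, even_iff_two_dvd]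
  exact fun h => Q.not_dvd_index (h.trans (relIndex_dvd_index_of_le hQM))

end chain

end Cfsg.Agent.MK.G
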