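import Cfsg.Agent.MK.G.Tools

/-!
# MK-G: the order of the group of the frame (helper76)

* `Fm.card_conj`, `Fm.card_dvd` : `|N'| ∏ (q_a + 1)` divides `2 ^ |ι| |M|`;
* `F1.card_dvd`, `F1.odd_MM`, `F1.odd_MM'`.
-/

set_option autoImplicit false
set_option linter.unusedSectionVars false

namespace Cfsg.Agent.MK.G

open Cfsg Subgroup Cfsg.Agent.Nodes.Reps Cfsg.Agent.ODD.QB

namespace Fm

variable {X ι : Type} [Group X] [Finite X] [Fintype ι] {Z : ι × Bool → Subgroup X} {U : Subgroup X}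
  {Λ : Subgroup (MulAut X)} (F : Fm U (In Λ) Z)

theorem cj_sw {k : X} {a : ι} (h : Sw Z k a) (s : Bool) : cj k (Z (a, s)) = Z (a, !s) := by
  ext y
  rw [mem_cj, ← h s, show k * (k⁻¹ * y * k) * k⁻¹ = y by group]

include F

theorem ne_poles (a : ι) (s : Bool) : Z (a, !s) ≠ Z (a, s) := fun h =>
  absurd (congrArg Prod.snd (F.inj h)) (by cases s <;> simp)

theorem exists_sw (a : ι) : ∃ m ∈ KK Z a, Sw Z m a := by
  obtain ⟨⟨y, hy⟩, h1⟩ := ne_bot_iff_exists_ne_one.1 (F.ne a)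
  obtain ⟨u, hu, v, hv, -, h⟩ := F.low a y hy fun h => h1 (Subtype.ext h)
  exact ⟨_, mul_mem (mul_mem (mem_sup_left hu) (mem_sup_right hy)) (mem_sup_left hv), h⟩

/-- the number of the poles of a rank one group -/
theorem card_conj (a : ι) :
    Nat.card (Set.range fun g : KK Z a => cj (g : X) (Z (a, true))) = Nat.card (Z (a, true)) + 1 := by
  obtain ⟨m, hm, hs⟩ := F.exists_sw a
  have h0 : Z (a, false) ≠ Z (a, true) := F.ne_poles a true
  have h1 : ∀ u ∈ Z (a, true), cj u (Z (a, false)) ≠ Z (a, true) := fun u hu e => h0 (by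
    rw [← cj_inv_cj u (Z (a, false)), e, cj_eq_of_mem (inv_mem hu)])
  let S : Subgroup X → Prop := fun H => H = Z (a, true) ∨ ∃ u ∈ Z (a, true), H = cj u (Z (a, false))
  have hP : ∀ x ∈ Z (a, true), ∀ H, S H → S (cj x H) := by
    rintro x hx _ (rfl | ⟨u, hu, rfl⟩)
    · exact Or.inl (cj_eq_of_mem hx)
    · exact Or.inr ⟨x * u, mul_mem hx hu, (cj_mul _ _ _).symm⟩
  have hQ : ∀ y ∈ Z (a, false), S (cj y (Z (a, true))) := fun y hy => by
    by_cases h2 : y = 1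
    · rw [h2, cj_one]; exact Or.inl rfl
    obtain ⟨c, hc, d, hd, -, h3⟩ := F.low a y hy h2
    refine Or.inr ⟨c⁻¹, inv_mem hc, ?_⟩
    rw [show Z (a, false) = _ from (cj_sw h3 true).symm, cj_mul, cj_mul, cj_inv_cj, cj_eq_of_mem hd]
  have hK : ∀ k, Sw Z k a → ∀ H, S H → S (cj k H) := by
    rintro k hk _ (rfl | ⟨u, hu, rfl⟩)
    · exact Or.inr ⟨1, one_mem _, by rw [cj_one]; exact cj_sw hk true⟩
    · rw [← cj_mul, show k * u = k * u * k⁻¹ * k by group, cj_mul, cj_sw hk false]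
      exact hQ _ ((hk true u).2 hu)
  have hA : ∀ x, x ∈ Z (a, true) ∨ x ∈ Z (a, false) → ∀ H, S H → S (cj x H) := by
    rintro x (hx | hx) H hH
    · exact hP x hx H hH
    by_cases h2 : x = 1
    · rwa [h2, cj_one]
    obtain ⟨c, hc, d, hd, -, h3⟩ := F.low a x hx h2
    have h4 := hP _ (inv_mem hc) _ (hK _ h3 _ (hP _ (inv_mem hd) H hH))
    rwa [← cj_mul, ← cj_mul, show c⁻¹ * (c * x * d) * d⁻¹ = x by group] at h4
  have hS : ∀ g ∈ Z (a, true) ⊔ Z (a, false), S (cj g (Z (a, true))) := fun g hg => by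
    rw [sup_eq_closure] at hg
    induction hg using closure_induction_left with
    | one => rw [cj_one]; exact Or.inl rfl
    | mul_left x hx y _ ih => rw [cj_mul]; exact hA x hx _ ih
    | inv_mul_cancel x hx y _ ih => rw [cj_mul]; exact hA x⁻¹ (hx.imp inv_mem inv_mem) _ ih
  let e : Option (Z (a, true)) → Set.range fun g : KK Z a => cj (g : X) (Z (a, true)) := fun o =>
    o.elim ⟨Z (a, true), 1, cj_one _⟩ fun u => ⟨cj u (Z (a, false)), ⟨_, mul_mem (mem_sup_left u.2) hm⟩, by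
      show cj (u * m) _ = _
      rw [cj_mul, cj_sw hs true]
      rfl⟩
  have he : Function.Bijective e := by
    constructor
    · rintro (_ | u) (_ | v) huv
      · rfl
      · exact absurd (congrArg Subtype.val huv).symm (h1 v v.2)
      · exact absurd (congrArg Subtype.val huv) (h1 u u.2)
      · have h2 : cj (u : X) (Z (a, false)) = cj (v : X) (Z (a, false)) := congrArg Subtype.val huv
        by_contra h3
        have h4 : m * ((v : X)⁻¹ * u) * m⁻¹ ≠ 1 := fun h4 => h3 (congrArg some (Subtype.ext (by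
          rw [mul_inv_eq_one, mul_eq_left, inv_mul_eq_one] at h4
          exact h4.symm)))
        obtain ⟨c, hc, d, hd, -, h5⟩ := F.low a _ ((hs true _).2 (mul_mem (inv_mem v.2) u.2)) h4
        have h6 := cj_sw h5 true
        have h7 : cj m (Z (a, false)) = Z (a, true) := cj_sw hs false
        have h8 : cj m⁻¹ (Z (a, true)) = Z (a, false) := by rw [← h7, cj_inv_cj]
        rw [cj_mul, cj_mul, cj_eq_of_mem hd, cj_mul, cj_mul, cj_mul, h8, h2, cj_inv_cj, h7, cj_eq_of_mem hc] at h6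
        exact h0 h6.symm
    · rintro ⟨_, ⟨g, hg⟩, rfl⟩
      rcases hS g hg with h2 | ⟨u, hu, h2⟩
      · exact ⟨none, Subtype.ext h2.symm⟩
      · exact ⟨some ⟨u, hu⟩, Subtype.ext h2.symm⟩
  rw [← Nat.card_eq_of_bijective e he, Finite.card_option]

theorem fst_eq {x : X} (hx : x ∈ ⨆ a, KK Z a) {π : Equiv.Perm (ι × Bool)} (h : Acts Z (MulAut.conj x) π) (a : ι) :
    (π (a, true)).1 = a := by
  by_contra h1
  obtain ⟨l, hl, e⟩ := ClosedExc.Prod.exists_local_cj (L := KK Z) (K := fun a => Z (a, true)) F.orth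
    (fun a => le_sup_left) hx a
  have h2 : Z (π (a, true)) ≤ KK Z a := fun y hy => by
    have h3 : y ∈ cj x (Z (a, true)) := mem_cj.2 ((h.2 _ _).1 (by
      rwa [MulAut.conj_apply, show x * (x⁻¹ * y * x) * x⁻¹ = y by group]))
    rw [e] at h3
    obtain ⟨z, hz, rfl⟩ := h3
    exact mul_mem (mul_mem hl (mem_sup_left hz)) (inv_mem hl)
  obtain ⟨m, hm, hs⟩ := F.exists_sw (π (a, true)).1
  refine F.ne_poles (π (a, true)).1 (π (a, true)).2 ?_
  rw [← cj_sw hs, ← mem_normalizer_iff_cj]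
  exact centralizer_le_normalizer _ fun y hy => (F.orth a _ (Ne.symm h1) y (h2 hy) m hm).eq

theorem exists_K {x : X} (hx : x ∈ In (Λ ⊓ NS Z)) :
    ∃ i ∈ (⨆ a, KK Z a) ⊓ In (Λ ⊓ NS Z), ∃ k ∈ In (TH Λ Z), x = i * k := by
  classical
  induction hk : ln Z (MulAut.conj x) generalizing x with
  | zero => exact ⟨1, one_mem _, x, F.mem_TH.2 ⟨hx, hk⟩, (one_mul x).symm⟩
  | succ k ih =>
    obtain ⟨π, h⟩ := hx.2
    rw [ln_eq F.inj h] at hk
    obtain ⟨a, ha⟩ := Set.nonempty_of_ncard_ne_zero (s := Ng π) (by omega)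
    obtain ⟨m, hm, hK, h1⟩ := F.exists_m (π (a, true)).1
    have h2 := (Sg.flip h1.1 h.1 (Ng_swap _) rfl).2 ha
    obtain ⟨i, hi, k, hk', e⟩ := ih (mul_mem hm hx) (by rw [map_mul, ln_eq F.inj (h1.mul h)]; omega)
    exact ⟨m⁻¹ * i, mul_mem (inv_mem ⟨le_iSup (KK Z) _ hK, hm⟩) hi, k, hk', by rw [mul_assoc, ← e, inv_mul_cancel_left]⟩

theorem relIndex_dvd : (In (TH Λ Z)).relIndex (In (Λ ⊓ NS Z)) ∣ 2 ^ Fintype.card ι := by
  classical
  rw [H55.Sd.relIndex_eq_of_mul inf_le_right fun x hx => F.exists_K hx]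
  choose π hπ using fun x : ↥((⨆ a, KK Z a) ⊓ In (Λ ⊓ NS Z)) => x.2.2.2
  have h1 : ∀ (x : ↥((⨆ a, KK Z a) ⊓ In (Λ ⊓ NS Z))) ψ, Acts Z (MulAut.conj (x : X)) ψ → π x = ψ := fun x ψ hψ => by
    ext1 y
    refine F.inj (Subgroup.ext fun z => ?_)
    have h3 := ((hπ x).2 y ((MulAut.conj (x : X))⁻¹ z)).trans (hψ.2 y _).symm
    rwa [MulAut.apply_inv_self] at h3
  let φ : ↥((⨆ a, KK Z a) ⊓ In (Λ ⊓ NS Z)) →* (ι → ℤˣ) :=
    MonoidHom.mk' (fun x a => if a ∈ Ng (π x) then -1 else 1) fun x y => funext fun a => by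
      rw [h1 (x * y) (π x * π y) (by rw [coe_mul, map_mul]; exact (hπ x).mul (hπ y)), Pi.mul_apply]
      simp only [Sg.mem_mul (hπ x).1, F.fst_eq y.2.1 (hπ y)]
      by_cases h2 : a ∈ Ng (π x) <;> by_cases h3 : a ∈ Ng (π y) <;> simp [h2, h3]
  have h2 : φ.ker ≤ (In (TH Λ Z)).subgroupOf _ := fun x hx =>
    ⟨x.2.2.1, π x, hπ x, Set.eq_empty_iff_forall_notMem.2 fun a ha => by
      have h3 : (if a ∈ Ng (π x) then (-1 : ℤˣ) else 1) = 1 := congrFun hx a
      rw [if_pos ha] at h3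
      exact absurd h3 (by decide)⟩
  refine (index_dvd_of_le h2).trans ?_
  have h3 := card_subgroup_dvd_card φ.range
  rwa [← index_ker, Nat.card_pi, Finset.prod_const, Finset.card_univ, show Nat.card ℤˣ = 2 by
    rw [Nat.card_eq_fintype_card, Fintype.card_units_int]] at h3

/-- **The order.** -/
theorem card_dvd : Nat.card (In (Λ ⊓ NS Z)) * ∏ a, (Nat.card (Z (a, true)) + 1) ∣
    2 ^ Fintype.card ι * Nat.card ↥(UD Z ⊔ In (Λ ⊓ NS Z)) := by
  have h0 : In (TH Λ Z) ≤ In (Λ ⊓ NS Z) := comap_mono TH_le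
  have h1 := relIndex_mul_relIndex ⊥ _ _ bot_le h0
  rw [relIndex_bot_left, relIndex_bot_left] at h1
  rw [← h1, mul_comm (Nat.card _), mul_assoc]
  refine mul_dvd_mul F.relIndex_dvd (dvd_trans ?_ (card_dvd_of_le (sup_le F.K_le (h0.trans le_sup_right))))
  have h2 := ClosedExc.Prod.card_sup_mul' (K := ⨆ a, KK Z a) (H := In (TH Λ Z)) fun t ⟨_, π, h, _⟩ =>
    mem_normalizer_fintype fun y hy => (iSup_le fun a y hy => le_iSup (KK Z) _ (Fr.map_KK h a hy) :
      (⨆ a, KK Z a) ≤ (⨆ a, KK Z a).comap (MulAut.conj t).toMonoidHom) hy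
  obtain ⟨d, hd⟩ := ClosedExc.Prod.card_dvd (L := KK Z) (K := fun a => Z (a, true)) F.orth (fun a => le_sup_left)
    (St := (⨆ a, KK Z a) ⊓ In (TH Λ Z)) (by
      rintro t ⟨ht, -, π, h, h3⟩ a
      ext y
      rw [mem_cj, ← h.2, MulAut.conj_apply, show t * (t⁻¹ * y * t) * t⁻¹ = y by group,
        show π (a, true) = (a, true) from Prod.ext (F.fst_eq ht h a) (notMem_Ng.1 (h3 ▸ Set.notMem_empty a))])
  simp only [F.card_conj, ← inf_assoc, inf_idem] at hd
  refine ⟨d, Nat.eq_of_mul_eq_mul_right (Nat.card_pos (α := ↥((⨆ a, KK Z a) ⊓ In (TH Λ Z)))) ?_⟩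
  rw [h2, hd]
  ring

end Fm

open CoxeterSystem Cfsg.Agent.ChevalleyStructure.CoxeterGeom Cfsg.Agent.Tits.Roots Cfsg.Agent.Nodes.BNOf
  Cfsg.Agent.Nodes.Bruhat Cfsg.Agent.ClosedExc.Frame

variable {I W Y ι : Type} [Fintype I] [DecidableEq I] [Group W] [Finite W] [Group Y] [Finite Y] [Fintype ι]
  {M : CoxeterMatrix I} {cs : CoxeterSystem M W} {A : I → I → ℤ} {h : IsCartan M A} {p : ℕ} {T : Subgroup Y}
  {n : I → Y} {X : (I → ℤ) → Subgroup Y} {β : ι → I → ℤ} {R : RGD cs h p T n X}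

theorem card_zc_rep (R : RGD cs h p T n X) {x : I → ℤ} (hx : IsRoot cs h x) (w : W) :
    Nat.card (zc (X (rep cs h w x))) = Nat.card (zc (X x)) := by
  obtain ⟨g, hg⟩ := exists_rp cs R.nsys w
  rw [← cj_zc (R.conj_rp hg hx)]
  exact card_map_of_injective (MulAut.conj g).injective

theorem card_zc_neg (R : RGD cs h p T n X) {x : I → ℤ} (hx : IsRoot cs h x) :
    Nat.card (zc (X (-x))) = Nat.card (zc (X x)) := by
  obtain ⟨w, i, rfl⟩ := id hx
  have h1 := card_zc_rep R hx (w * cs.simple i * w⁻¹)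
  rwa [rep_mul_apply, rep_inv_apply, rep_mul_apply, rep_simple_sr, map_neg] at h1

theorem F1.card_dvd (F : F1 R β) : Nat.card T * Nat.card (WD cs h β) * ∏ a, (Nat.card (zc (X (β a))) + 1) ∣
    2 ^ Fintype.card ι * Nat.card (MM R β) := by
  obtain ⟨β', e, h0⟩ := exists_pos' F.root
  have F' := F.congr e
  have h1 := (F'.fm h0).card_dvd
  rw [MM_eq F.prime F'.root (in_Cj R F.top) (F'.fm h0), in_eq (R := R) F.prime F'.root (F'.fm h0).inj (in_Cj R F.top),
    card_NP,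
    MM_congr e, WD_congr e, mul_comm (Nat.card _) (Nat.card T)] at h1
  have h2 : ∀ a, Nat.card (Zr X β' (a, true)) = Nat.card (zc (X (β a))) := fun a => by
    show Nat.card (zc (X (β' a))) = _
    rcases e a with e | e <;> rw [e]
    rw [card_zc_neg R (F.root a)]
  rw [Finset.prod_congr rfl fun a _ => congrArg (· + 1) (h2 a)] at h1
  exact h1

/-- **The index is odd**, with a subgroup `P` of the stabiliser of the frame -/
theorem F1.odd_MM' (F : F1 R β) {c : ℕ} (hc : c ∣ Nat.card (WD cs h β))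
    (hord : ∀ j : ℕ, 2 ^ j ∣ Nat.card Y →
      2 ^ (j + Fintype.card ι) ∣ Nat.card T * c * ∏ a, (Nat.card (zc (X (β a))) + 1)) : Odd (MM R β).index := by
  rw [← Nat.not_even_iff_odd, even_iff_two_dvd]
  intro h2
  have h3 : 2 ^ ((Nat.card (MM R β)).factorization 2 + 1) ∣ Nat.card Y := by
    rw [← (MM R β).card_mul_index, pow_succ]
    exact mul_dvd_mul (Nat.ordProj_dvd _ 2) h2
  have h4 := ((hord _ h3).trans (mul_dvd_mul (mul_dvd_mul_left _ hc) dvd_rfl)).trans F.card_dvd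
  rw [pow_add, mul_comm] at h4
  exact Nat.pow_succ_factorization_not_dvd Nat.card_pos.ne' Nat.prime_two
    (Nat.dvd_of_mul_dvd_mul_left (by positivity) h4)

/-- **The index is odd.** -/
theorem F1.odd_MM (F : F1 R β) (hW : ∃ S : Sylow 2 W, normalizer ((S : Subgroup W) : Set W) ≤ WD cs h β)
    (hord : ∀ j : ℕ, 2 ^ j ∣ Nat.card Y →
      2 ^ (j + Fintype.card ι) ∣ Nat.card T * Nat.card W * ∏ a, (Nat.card (zc (X (β a))) + 1)) :
    Odd (MM R β).index := by
  refine F.odd_MM' dvd_rfl fun j hj => ?_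
  refine (Nat.Coprime.pow_left _ (Nat.coprime_two_left.2 (odd_WD hW))).dvd_of_dvd_mul_right ?_
  have h1 := hord j hj
  rw [← (WD cs h β).card_mul_index] at h1
  exact h1.trans (dvd_of_eq (by ring))

end Cfsg.Agent.MK.G
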