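import Cfsg.Agent.MK.Defs
import Cfsg.Agent.ODD.QB.Node

/-!
# MK-G: the interface of the generic theorem for odd `q` (helper76)

`R : RGD cs h p T n X` are root group data of `Y`, `β : ι → I → ℤ` is a frame of roots (signs do not matter, `ι` may be
empty), `zc H` is the centre of `H`, `LZ X x = zc (X x) ⊔ zc (X (-x))`.

* `WD cs h β` : the stabiliser of `±β` in the Weyl group; `MM R β = (⨆ a, LZ X (β a)) ⊔ NP R (WD cs h β)`;
* `GD R β` : the data which do not depend on the automorphisms;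
* `Au R β Γ` : a diagonal automorphism permutes the frame after a correction by an element of `N`;
* `NF cs h X Γ` : a `2`-group of automorphisms fixes all root groups and has no fixed points on them;
* `Main` : `Sit Y Γ → GD R β → Au R β Γ → NF cs h X Γ → Gd Y Γ`;
* `MainI`, `MainC` : the same for a central extension `f : Y →* S` of order prime to `2 p` (or an isomorphism), all
  data are on `S`.
-/

set_option autoImplicit false
set_option linter.unusedSectionVars false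

namespace Cfsg.Agent.MK.G

open Cfsg CoxeterSystem Cfsg.Agent.ChevalleyStructure.CoxeterGeom Cfsg.Agent.Tits.Roots Cfsg.Agent.Nodes.Reps
  Cfsg.Agent.Nodes.BNOf Cfsg.Agent.Nodes.Bruhat Cfsg.Agent.KFacts.RgdAut Cfsg.Agent.KFacts.RgdDiag
  Cfsg.Agent.ClosedExc.Frame Cfsg.Agent.ODD.QB

theorem inv_mem_of_finite {G : Type} [Group G] [Finite G] {S : Submonoid G} {g : G} (hg : g ∈ S) : g⁻¹ ∈ S := by
  have h1 : g * g ^ (orderOf g - 1) = 1 := by
    rw [← pow_succ', Nat.sub_add_cancel (orderOf_pos g), pow_orderOf_eq_one]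
  rw [inv_eq_of_mul_eq_one_right h1]
  exact pow_mem hg _

variable {I W Y ι : Type} [Fintype I] [DecidableEq I] [Group W] [Finite W] [Group Y] [Finite Y] [Fintype ι]
  {M : CoxeterMatrix I} {cs : CoxeterSystem M W} {A : I → I → ℤ} {h : IsCartan M A} {p : ℕ} {T : Subgroup Y}
  {n : I → Y} {X : (I → ℤ) → Subgroup Y}

/-- the stabiliser of the frame in the Weyl group, as a monoid -/
def WD0 (cs : CoxeterSystem M W) (h : IsCartan M A) (β : ι → I → ℤ) : Submonoid W where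
  carrier := {w | ∀ a, ∃ b, rep cs h w (β a) = β b ∨ rep cs h w (β a) = -β b}
  one_mem' a := ⟨a, Or.inl (by rw [map_one, Module.End.one_apply])⟩
  mul_mem' {v w} hv hw a := by
    obtain ⟨b, hb⟩ := hw a
    obtain ⟨c, hc⟩ := hv b
    refine ⟨c, ?_⟩
    rw [rep_mul_apply]
    rcases hb with hb | hb <;> rcases hc with hc | hc <;> simp [hb, hc]

/-- the stabiliser of the frame in the Weyl group -/
def WD (cs : CoxeterSystem M W) (h : IsCartan M A) (β : ι → I → ℤ) : Subgroup W where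
  toSubmonoid := WD0 cs h β
  inv_mem' := inv_mem_of_finite

theorem mem_WD {β : ι → I → ℤ} {w : W} :
    w ∈ WD cs h β ↔ ∀ a, ∃ b, rep cs h w (β a) = β b ∨ rep cs h w (β a) = -β b := Iff.rfl

/-- the subgroup of the frame -/
def MM (R : RGD cs h p T n X) (β : ι → I → ℤ) : Subgroup Y := (⨆ a, LZ X (β a)) ⊔ NP R (WD cs h β)

theorem MM_def (R : RGD cs h p T n X) (β : ι → I → ℤ) : MM R β = (⨆ a, LZ X (β a)) ⊔ NP R (WD cs h β) := rfl

/-- the rank one axiom for the centres of the root groups (`rk_of_comm`: it holds for abelian root groups;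
`rk_of_nd`: it holds for a node of type `SL₂`) -/
def Rk (R : RGD cs h p T n X) (x : I → ℤ) : Prop :=
  ∀ y ∈ zc (X (-x)), y ≠ 1 → ∃ u ∈ zc (X x), ∃ v ∈ zc (X x), u * y * v ∈ NN cs R.nsys

/-- **The data which do not depend on the automorphisms.** -/
structure GD (R : RGD cs h p T n X) (β : ι → I → ℤ) : Prop where
  prime : p.Prime
  odd : p ≠ 2
  top : GG cs h T X = ⊤
  root : ∀ a, IsRoot cs h (β a)
  rk : ∀ a, Rk R (β a)
  orth : ∀ a b, a ≠ b → ∀ u ∈ LZ X (β a), ∀ v ∈ LZ X (β b), Commute u v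
  /-- (F3) -/
  weyl : ∃ S : Sylow 2 W, Subgroup.normalizer ((S : Subgroup W) : Set W) ≤ WD cs h β
  /-- (F2) -/
  syl : ∃ Q : Sylow 2 Y, Subgroup.normalizer ((Q : Subgroup Y) : Set Y) ≤ MM R β
  ne : MM R β ≠ ⊤

/-- `γ` maps `X x` onto `X y` and `X (-x)` onto `X (-y)` -/
def Mv (X : (I → ℤ) → Subgroup Y) (γ : MulAut Y) (x y : I → ℤ) : Prop :=
  (∀ g, γ g ∈ X y ↔ g ∈ X x) ∧ ∀ g, γ g ∈ X (-y) ↔ g ∈ X (-x)

/-- `γ` permutes the root groups of the frame -/
def Pm (X : (I → ℤ) → Subgroup Y) (β : ι → I → ℤ) (γ : MulAut Y) : Prop :=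
  ∀ a, ∃ b, Mv X γ (β a) (β b) ∨ Mv X γ (β a) (-β b)

/-- the diagonal automorphisms in `Γ` permute the frame after a correction by an element of `N` -/
def Au (R : RGD cs h p T n X) (β : ι → I → ℤ) (Γ : Subgroup (MulAut Y)) : Prop :=
  ∀ γ ∈ Γ, ∀ σ, Diag T X γ σ → ∃ g ∈ NN cs R.nsys, Pm X β (MulAut.conj g * γ)

/-- a `2`-group in `Γ` which fixes all root groups and has no fixed points on them
(`nf_of_noFix`: the `2`-part of the torus) -/
def NF (cs : CoxeterSystem M W) (h : IsCartan M A) (X : (I → ℤ) → Subgroup Y) (Γ : Subgroup (MulAut Y)) : Prop :=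
  ∃ D ≤ Γ, IsPGroup 2 D ∧ (∀ α ∈ D, ∀ x, IsRoot cs h x → Fix α (X x)) ∧
    ∀ x, IsRoot cs h x → ∀ u ∈ X x, (∀ α ∈ D, α u = u) → u = 1

/-- **The generic theorem** (`MK.G.main`). -/
def Main : Prop :=
  ∀ {I W Y ι : Type} [Fintype I] [DecidableEq I] [Group W] [Finite W] [Group Y] [Finite Y] [Fintype ι]
    {M : CoxeterMatrix I} {cs : CoxeterSystem M W} {A : I → I → ℤ} {h : IsCartan M A} {p : ℕ} {T : Subgroup Y}
    {n : I → Y} {X : (I → ℤ) → Subgroup Y} (R : RGD cs h p T n X) (β : ι → I → ℤ) (Γ : Subgroup (MulAut Y)),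
    Sit Y Γ → GD R β → Au R β Γ → NF cs h X Γ → Gd Y Γ

/-- the automorphisms of `S` which are induced by `Γ` -/
def ind {S : Type} [Group S] (f : Y →* S) (Γ : Subgroup (MulAut Y)) : Subgroup (MulAut S) where
  carrier := {δ | ∃ γ ∈ Γ, ∀ y, δ (f y) = f (γ y)}
  one_mem' := ⟨1, one_mem _, fun _ => rfl⟩
  mul_mem' := by
    rintro a b ⟨γ, hγ, h1⟩ ⟨δ, hδ, h2⟩
    exact ⟨γ * δ, mul_mem hγ hδ, fun y => by rw [MulAut.mul_apply, h2, h1, MulAut.mul_apply]⟩
  inv_mem' := by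
    rintro a ⟨γ, hγ, h1⟩
    exact ⟨γ⁻¹, inv_mem hγ, fun y => a.injective (by rw [MulAut.apply_inv_self, h1, MulAut.apply_inv_self])⟩

theorem mem_ind {S : Type} [Group S] {f : Y →* S} {Γ : Subgroup (MulAut Y)} {δ : MulAut S} :
    δ ∈ ind f Γ ↔ ∃ γ ∈ Γ, ∀ y, δ (f y) = f (γ y) := Iff.rfl

theorem Au.mono {R : RGD cs h p T n X} {β : ι → I → ℤ} {Γ Λ : Subgroup (MulAut Y)} (H : Au R β Γ) (hle : Λ ≤ Γ) :
    Au R β Λ := fun γ hγ => H γ (hle hγ)

/-- **The generic theorem for a cover, general form** (`MK.G.mainI`): all data are on the quotient `S`. -/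
def MainI : Prop :=
  ∀ {I W S ι : Type} [Fintype I] [DecidableEq I] [Group W] [Finite W] [Group S] [Finite S] [Fintype ι]
    {M : CoxeterMatrix I} {cs : CoxeterSystem M W} {A : I → I → ℤ} {h : IsCartan M A} {p : ℕ} {T : Subgroup S}
    {n : I → S} {X : (I → ℤ) → Subgroup S} (R : RGD cs h p T n X) (β : ι → I → ℤ), GD R β →
    ∀ (Y : Type) [Group Y] [Finite Y] (f : Y →* S), ODD.Cv.CE p f → ∀ Γ : Subgroup (MulAut Y), Sit Y Γ →
    Au R β (ind f Γ) → NF cs h X (ind f Γ) → Gd Y Γ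

/-- **The generic theorem for a cover** (`MK.G.mainC`): all data are on the quotient `S`. -/
def MainC : Prop :=
  ∀ {I W S ι : Type} [Fintype I] [DecidableEq I] [Group W] [Finite W] [Group S] [Finite S] [Fintype ι]
    {M : CoxeterMatrix I} {cs : CoxeterSystem M W} {A : I → I → ℤ} {h : IsCartan M A} {p : ℕ} {T : Subgroup S}
    {n : I → S} {X : (I → ℤ) → Subgroup S} (R : RGD cs h p T n X) (β : ι → I → ℤ),
    GD R β → Au R β ⊤ → (∀ a ∈ T, ∀ b ∈ T, a * b = b * a) → H69.OQ.NoFix cs h T X →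
    ∀ (Y : Type) [Group Y] [Finite Y] (f : Y →* S), ODD.Cv.CE p f → ∀ Γ : Subgroup (MulAut Y), Sit Y Γ → Gd Y Γ

end Cfsg.Agent.MK.G
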