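import Cfsg.Agent.MK.G.Abs

/-!
# MK-G: frames (helper76)

* `Ng π`, `ln Z γ` : the positive poles which become negative, and their number;
* `NS Z`, `TH Λ Z` : the automorphisms which permute the poles, those in `Λ` which preserve the signs;
* `Fm U N Z` : a frame of commuting rank one groups; `Fm.py`, `Fm.yx`.
-/

set_option autoImplicit false
set_option linter.unusedSectionVars false

namespace Cfsg.Agent.MK.G

open Cfsg Subgroup Cfsg.Agent.H55.Sd Cfsg.Agent.ODD.QB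

section signs

variable {ι : Type} [Fintype ι] {π ψ : Equiv.Perm (ι × Bool)}

/-- signed permutations -/
def Sg (π : Equiv.Perm (ι × Bool)) : Prop := ∀ a s, π (a, !s) = ((π (a, s)).1, !(π (a, s)).2)

/-- the positive poles which become negative -/
def Ng (π : Equiv.Perm (ι × Bool)) : Set ι := {a | (π (a, true)).2 = false}

theorem mem_Ng {a : ι} : a ∈ Ng π ↔ (π (a, true)).2 = false := Iff.rfl

theorem notMem_Ng {a : ι} : a ∉ Ng π ↔ (π (a, true)).2 = true := by rw [mem_Ng, Bool.not_eq_false]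

theorem Sg.inv (h : Sg π) : Sg π⁻¹ := fun a s => by
  apply π.injective
  rw [h]
  simp

theorem Sg.inj (h : Sg π) {a b : ι} (hab : (π (a, true)).1 = (π (b, true)).1) : a = b := by
  by_cases h3 : (π (a, true)).2 = (π (b, true)).2
  · exact congrArg Prod.fst (π.injective (Prod.ext hab h3))
  · have h4 : π (a, true) = π (b, !true) := by
      rw [h]
      exact Prod.ext hab (Bool.eq_not_iff.2 h3)
    exact congrArg Prod.fst (π.injective h4)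

theorem Sg.surj (h : Sg π) (c : ι) : ∃ a, (π (a, true)).1 = c :=
  (Finite.injective_iff_surjective (f := fun a => (π (a, true)).1)).1 (fun _ _ => h.inj) c

theorem Sg.ncard_le (h : Sg π) : (Ng π).ncard ≤ (Ng π⁻¹).ncard := by
  refine Set.ncard_le_ncard_of_injOn (fun a => (π (a, true)).1) (fun a ha => ?_) fun _ _ _ _ => h.inj
  have h1 := h a true
  rw [mem_Ng.1 ha] at h1
  rw [mem_Ng, show ((π (a, true)).1, true) = π (a, !true) from h1.symm]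
  simp

theorem Sg.ncard_inv (h : Sg π) : (Ng π⁻¹).ncard = (Ng π).ncard :=
  le_antisymm (by simpa using h.inv.ncard_le) h.ncard_le

theorem Sg.mem_mul (h : Sg π) (a : ι) : a ∈ Ng (π * ψ) ↔ (a ∈ Ng ψ ↔ (ψ (a, true)).1 ∉ Ng π) := by
  rw [mem_Ng, mem_Ng, notMem_Ng, Equiv.Perm.mul_apply]
  obtain ⟨⟨b, _ | _⟩, hx⟩ : ∃ x, ψ (a, true) = x := ⟨_, rfl⟩
  · rw [hx, show (b, false) = (b, !true) from rfl, h]
    simp
  · rw [hx]
    simp

theorem Sg.ng_mul (h : Sg π) (h0 : Ng π = ∅) : Ng (π * ψ) = Ng ψ := by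
  ext a
  rw [h.mem_mul, h0]
  simp

theorem Sg.flip (h : Sg π) (h' : Sg ψ) {c a : ι} (h1 : Ng π = {c}) (ha : (ψ (a, true)).1 = c) :
    (a ∉ Ng ψ → (Ng (π * ψ)).ncard = (Ng ψ).ncard + 1) ∧ (a ∈ Ng ψ → (Ng (π * ψ)).ncard + 1 = (Ng ψ).ncard) := by
  have h2 : ∀ b, b ∈ Ng (π * ψ) ↔ (b ∈ Ng ψ ↔ b ≠ a) := fun b => by
    rw [h.mem_mul, h1, Set.mem_singleton_iff, ← ha]
    exact iff_congr Iff.rfl (not_congr ⟨h'.inj, fun e => by rw [e]⟩)
  constructor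
  · intro h3
    rw [← Set.ncard_insert_of_notMem h3]
    congr 1
    ext b
    rw [h2, Set.mem_insert_iff]
    by_cases hb : b = a
    · simp [hb, h3]
    · simp [hb]
  · intro h3
    rw [← Set.ncard_insert_of_notMem (a := a) (by rw [h2]; simp [h3])]
    congr 1
    ext b
    rw [Set.mem_insert_iff, h2]
    by_cases hb : b = a
    · simp [hb, h3]
    · simp [hb]

theorem Ng_swap [DecidableEq ι] (a : ι) : Ng (Equiv.swap (a, true) (a, false)) = {a} := by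
  ext b
  rw [mem_Ng, Set.mem_singleton_iff]
  by_cases hb : b = a
  · simp [hb]
  · rw [Equiv.swap_apply_of_ne_of_ne (fun h => hb (congrArg Prod.fst h)) fun h => hb (congrArg Prod.fst h)]
    simp [hb]

end signs

variable {X ι : Type} [Group X] [Finite X] [Fintype ι] {Z : ι × Bool → Subgroup X}

/-- the automorphisms which permute the poles -/
def NS (Z : ι × Bool → Subgroup X) : Subgroup (MulAut X) where
  carrier := {γ | ∃ π, Acts Z γ π}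
  one_mem' := ⟨1, fun _ _ => rfl, fun _ _ => Iff.rfl⟩
  mul_mem' := fun ⟨_, h1⟩ ⟨_, h2⟩ => ⟨_, h1.mul h2⟩
  inv_mem' := fun ⟨_, h1⟩ => ⟨_, h1.inv⟩

/-- the automorphisms in `Λ` which permute the positive poles -/
def TH (Λ : Subgroup (MulAut X)) (Z : ι × Bool → Subgroup X) : Subgroup (MulAut X) where
  carrier := {γ | γ ∈ Λ ∧ ∃ π, Acts Z γ π ∧ Ng π = ∅}
  one_mem' := ⟨one_mem _, 1, ⟨fun _ _ => rfl, fun _ _ => Iff.rfl⟩, Set.eq_empty_iff_forall_notMem.2 fun _ => notMem_Ng.2 rfl⟩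
  mul_mem' := fun ⟨h1, _, h2, h3⟩ ⟨h4, _, h5, h6⟩ => ⟨mul_mem h1 h4, _, h2.mul h5, (Sg.ng_mul h2.1 h3).trans h6⟩
  inv_mem' := fun ⟨h1, _, h2, h3⟩ => ⟨inv_mem h1, _, h2.inv, by
    rw [← Set.ncard_eq_zero, Sg.ncard_inv h2.1, h3, Set.ncard_empty]⟩

theorem TH_le {Λ : Subgroup (MulAut X)} : TH Λ Z ≤ Λ ⊓ NS Z := fun _ ⟨h1, π, h2, _⟩ => ⟨h1, π, h2⟩

/-- the length -/
noncomputable def ln (Z : ι × Bool → Subgroup X) (γ : MulAut X) : ℕ :=
  Set.ncard {a | ∃ b, ∀ y, γ y ∈ Z (b, false) ↔ y ∈ Z (a, true)}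

theorem ln_eq (hi : Function.Injective Z) {γ : MulAut X} {π : Equiv.Perm (ι × Bool)} (h : Acts Z γ π) :
    ln Z γ = (Ng π).ncard := by
  refine congrArg Set.ncard (Set.ext fun a => ⟨fun ⟨b, hb⟩ => ?_, fun ha => ⟨(π (a, true)).1, fun y => ?_⟩⟩)
  · have h1 : Z (π (a, true)) = Z (b, false) := Subgroup.ext fun y => by
      have h2 := (h.2 (a, true) (γ⁻¹ y)).trans (hb (γ⁻¹ y)).symm
      rwa [MulAut.apply_inv_self] at h2
    rw [mem_Ng, hi h1]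
  · rw [← mem_Ng.1 ha]
    exact h.2 _ y

/-- `k` exchanges the two poles of `a` -/
def Sw (Z : ι × Bool → Subgroup X) (k : X) (a : ι) : Prop := ∀ s y, k * y * k⁻¹ ∈ Z (a, !s) ↔ y ∈ Z (a, s)

/-- the group generated by the positive poles -/
def UD (Z : ι × Bool → Subgroup X) : Subgroup X := ⨆ a, Z (a, true)

/-- the group generated by the positive poles other than `c` -/
def VD (Z : ι × Bool → Subgroup X) (c : ι) : Subgroup X := ⨆ a : {a // a ≠ c}, Z (a.1, true)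

theorem le_UD (a : ι) : Z (a, true) ≤ UD Z := le_iSup (fun a => Z (a, true)) a

theorem map_pos {γ : MulAut X} {π : Equiv.Perm (ι × Bool)} (h : Acts Z γ π) {a : ι} (ha : a ∉ Ng π) {y : X}
    (hy : y ∈ Z (a, true)) : γ y ∈ UD Z := by
  have h1 := (h.2 _ y).2 hy
  rw [show π (a, true) = ((π (a, true)).1, true) from Prod.ext rfl (notMem_Ng.1 ha)] at h1
  exact le_UD _ h1

theorem map_UD {γ : MulAut X} {π : Equiv.Perm (ι × Bool)} (h : Acts Z γ π) (h0 : Ng π = ∅) {y : X} (hy : y ∈ UD Z) :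
    γ y ∈ UD Z :=
  (iSup_le fun a y hy => map_pos h (by rw [h0]; exact Set.notMem_empty a) hy :
    UD Z ≤ (UD Z).comap γ.toMonoidHom) hy

theorem map_VD {γ : MulAut X} {π : Equiv.Perm (ι × Bool)} (h : Acts Z γ π) {c : ι} (h0 : Ng π = {c}) {y : X}
    (hy : y ∈ VD Z c) : γ y ∈ UD Z :=
  (iSup_le fun a y hy => map_pos h (by rw [h0]; exact a.2) hy : VD Z c ≤ (UD Z).comap γ.toMonoidHom) hy

/-- **A frame.** -/
structure Fm (U N : Subgroup X) (Z : ι × Bool → Subgroup X) : Prop where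
  inj : Function.Injective Z
  orth : ∀ a b, a ≠ b → ∀ x ∈ KK Z a, ∀ y ∈ KK Z b, Commute x y
  pos : ∀ a, Z (a, true) ≤ U
  ne : ∀ a, Z (a, false) ≠ ⊥
  low : ∀ a, ∀ y ∈ Z (a, false), y ≠ 1 → ∃ u ∈ Z (a, true), ∃ v ∈ Z (a, true), u * y * v ∈ N ∧ Sw Z (u * y * v) a
  uniq : ∀ n ∈ N, ∀ n' ∈ N, ∀ u ∈ U, ∀ v ∈ U, u * n * v = n' → n = n'

namespace Fm

variable {U : Subgroup X} {Λ : Subgroup (MulAut X)} (F : Fm U (In Λ) Z)

include F

theorem acts_sw [DecidableEq ι] {a : ι} {k : X} (hk : k ∈ KK Z a) (hs : Sw Z k a) :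
    Acts Z (MulAut.conj k) (Equiv.swap (a, true) (a, false)) := by
  have h1 : ∀ s, Equiv.swap (a, true) (a, false) (a, s) = (a, !s) := fun s => by cases s <;> simp
  have h2 : ∀ b s, b ≠ a → Equiv.swap (a, true) (a, false) (b, s) = (b, s) := fun b s hb =>
    Equiv.swap_apply_of_ne_of_ne (fun h => hb (congrArg Prod.fst h)) fun h => hb (congrArg Prod.fst h)
  refine ⟨fun b s => ?_, ?_⟩
  · by_cases hb : b = a
    · rw [hb, h1, h1]
    · rw [h2 b _ hb, h2 b _ hb]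
  · rintro ⟨b, s⟩ y
    rw [MulAut.conj_apply]
    by_cases hb : b = a
    · rw [hb, h1, hs]
    · rw [h2 b _ hb]
      have h3 : ∀ g ∈ KK Z a, ∀ y ∈ Z (b, s), g * y * g⁻¹ = y := fun g hg y hy => by
        rw [(F.orth a b (Ne.symm hb) g hg y (Fr.Z_le (Z := Z) (b, s) hy)).eq, mul_inv_cancel_right]
      refine ⟨fun h => ?_, fun h => by rwa [h3 _ hk y h]⟩
      have h4 := h3 _ (inv_mem hk) _ h
      rw [inv_inv, ← mul_assoc, ← mul_assoc, inv_mul_cancel, one_mul, inv_mul_cancel_right] at h4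
      rwa [h4]

theorem low' [DecidableEq ι] (a : ι) {y : X} (hy : y ∈ Z (a, false)) (h1 : y ≠ 1) :
    ∃ u ∈ Z (a, true), ∃ v ∈ Z (a, true), u * y * v ∈ In (Λ ⊓ NS Z) ∧ u * y * v ∈ KK Z a ∧
      Acts Z (MulAut.conj (u * y * v)) (Equiv.swap (a, true) (a, false)) := by
  obtain ⟨u, hu, v, hv, h2, h3⟩ := F.low a y hy h1
  have h4 : u * y * v ∈ KK Z a := mul_mem (mul_mem (mem_sup_left hu) (mem_sup_right hy)) (mem_sup_left hv)
  exact ⟨u, hu, v, hv, ⟨h2, _, F.acts_sw h4 h3⟩, h4, F.acts_sw h4 h3⟩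

theorem exists_m [DecidableEq ι] (a : ι) :
    ∃ m ∈ In (Λ ⊓ NS Z), m ∈ KK Z a ∧ Acts Z (MulAut.conj m) (Equiv.swap (a, true) (a, false)) := by
  obtain ⟨⟨y, hy⟩, h1⟩ := ne_bot_iff_exists_ne_one.1 (F.ne a)
  obtain ⟨u, -, v, -, h⟩ := F.low' a hy fun h => h1 (Subtype.ext h)
  exact ⟨_, h⟩

theorem exists_mul (c : ι) {u : X} (hu : u ∈ UD Z) : ∃ v ∈ VD Z c, ∃ x ∈ Z (c, true), u = v * x := by
  have h1 : UD Z ≤ VD Z c ⊔ Z (c, true) := iSup_le fun a => by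
    by_cases ha : a = c
    · rw [ha]; exact le_sup_right
    · exact (le_iSup (fun a : {a // a ≠ c} => Z (a.1, true)) ⟨a, ha⟩).trans le_sup_left
  refine exists_mul_of_sup (fun x hx v hv => ?_) (h1 hu)
  have h2 : VD Z c ≤ centralizer {x} := iSup_le fun a y hy => mem_centralizer_singleton_iff.2
    (F.orth a c a.2 y (mem_sup_left hy) x (mem_sup_left hx)).eq
  rwa [← mem_centralizer_singleton_iff.1 (h2 hv), mul_inv_cancel_right]

theorem UD_le : UD Z ≤ U := iSup_le F.pos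

theorem ln_inv {γ : MulAut X} (hγ : γ ∈ NS Z) : ln Z γ⁻¹ = ln Z γ := by
  obtain ⟨π, h⟩ := hγ
  rw [ln_eq F.inj h, ln_eq F.inj h.inv, Sg.ncard_inv h.1]

theorem ln_mul {γ δ : MulAut X} (hγ : γ ∈ TH Λ Z) (hδ : δ ∈ NS Z) : ln Z (γ * δ) = ln Z δ := by
  obtain ⟨-, π, h, h0⟩ := hγ
  obtain ⟨ψ, h'⟩ := hδ
  rw [ln_eq F.inj (h.mul h'), ln_eq F.inj h', Sg.ng_mul h.1 h0]

theorem mem_TH {γ : MulAut X} : γ ∈ TH Λ Z ↔ γ ∈ Λ ⊓ NS Z ∧ ln Z γ = 0 := by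
  refine ⟨fun h => ⟨TH_le h, ?_⟩, fun ⟨⟨h1, π, h2⟩, h3⟩ => ⟨h1, π, h2, ?_⟩⟩
  · obtain ⟨-, π, h1, h2⟩ := h
    rw [ln_eq F.inj h1, h2, Set.ncard_empty]
  · rwa [ln_eq F.inj h2, Set.ncard_eq_zero] at h3

theorem desc {γ : MulAut X} (hγ : γ ∈ NS Z) (h0 : ln Z γ ≠ 0) :
    ∃ s ∈ In (Λ ⊓ NS Z), ln Z (MulAut.conj s) = 1 ∧ ln Z (MulAut.conj s * γ) + 1 = ln Z γ := by
  classical
  obtain ⟨π, h⟩ := hγ
  rw [ln_eq F.inj h] at h0 ⊢
  obtain ⟨a, ha⟩ := Set.nonempty_of_ncard_ne_zero h0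
  obtain ⟨m, hm, -, h1⟩ := F.exists_m (π (a, true)).1
  refine ⟨m, hm, by rw [ln_eq F.inj h1, Ng_swap, Set.ncard_singleton], ?_⟩
  rw [ln_eq F.inj (h1.mul h)]
  exact (Sg.flip h1.1 h.1 (Ng_swap _) rfl).2 ha

theorem py : PY (UD Z) (In (Λ ⊓ NS Z)) fun x => ln Z (MulAut.conj x) := by
  classical
  have h1 : ∀ s ∈ In (Λ ⊓ NS Z), ln Z (MulAut.conj s) = 1 → ∃ π c, Acts Z (MulAut.conj s) π ∧ Ng π = {c} := by
    rintro s ⟨-, π, h⟩ hl
    rw [ln_eq F.inj h, Set.ncard_eq_one] at hl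
    exact ⟨π, hl.imp fun _ e => ⟨h, e⟩⟩
  refine ⟨fun n hn n' hn' u hu v hv => F.uniq n hn.1 n' hn'.1 u (F.UD_le hu) v (F.UD_le hv), ?_, fun n hn => ?_,
    fun t ht hl => ⟨fun u hu => ?_, fun n hn => ?_⟩, fun s hs hl n hn => ?_, fun n hn hl => ?_,
    fun s hs hl n hn hl' u hu => ?_, fun s hs hl u hu => ?_⟩
  · rw [map_one]
    exact (F.mem_TH.1 (one_mem _)).2
  · rw [map_inv, F.ln_inv hn.2]
  · obtain ⟨-, π, h, h0⟩ := F.mem_TH.2 ⟨ht, hl⟩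
    exact map_UD h h0 hu
  · rw [map_mul, F.ln_mul (F.mem_TH.2 ⟨ht, hl⟩) hn.2]
  · obtain ⟨π, c, h, hc⟩ := h1 s hs hl
    obtain ⟨ψ, h'⟩ := hn.2
    obtain ⟨a, ha⟩ := Sg.surj h'.1 c
    simp only [map_mul, ln_eq F.inj (h.mul h'), ln_eq F.inj h']
    exact (em _).symm.imp (Sg.flip h.1 h'.1 hc ha).1 (Sg.flip h.1 h'.1 hc ha).2
  · simp only [map_mul]
    exact F.desc hn.2 hl
  · obtain ⟨π, c, h, hc⟩ := h1 s hs hl
    obtain ⟨ψ, h'⟩ := hn.2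
    obtain ⟨a, ha⟩ := Sg.surj h'.1 c
    simp only [map_mul, ln_eq F.inj (h.mul h'), ln_eq F.inj h'] at hl'
    have h2 : a ∉ Ng ψ := fun h3 => by
      have := (Sg.flip h.1 h'.1 hc ha).2 h3
      omega
    obtain ⟨v, hv, x, hx, rfl⟩ := F.exists_mul c hu
    refine ⟨_, map_VD h hc hv, n⁻¹ * x * n, le_UD a ((h'.2 _ _).1 ?_), by rw [MulAut.conj_apply]; group⟩
    rwa [show ψ (a, true) = (c, true) from Prod.ext ha (notMem_Ng.1 h2), MulAut.conj_apply,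
      show n * (n⁻¹ * x * n) * n⁻¹ = x by group]
  · obtain ⟨π, c, h, hc⟩ := h1 s hs hl
    obtain ⟨v, hv, x, hx, rfl⟩ := F.exists_mul c hu
    have h2 : s * v * s⁻¹ ∈ UD Z := map_VD h hc hv
    have e : s * (v * x) * s⁻¹ = s * v * s⁻¹ * (s * x * s⁻¹) := by group
    have h3 : s * x * s⁻¹ ∈ Z ((π (c, true)).1, false) := by
      rw [← mem_Ng.1 (hc ▸ Set.mem_singleton c : c ∈ Ng π)]
      exact (h.2 _ x).2 hx
    by_cases h4 : s * x * s⁻¹ = 1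
    · left
      rwa [e, h4, mul_one]
    · obtain ⟨a, ha, b, hb, h5, -, h6⟩ := F.low' _ h3 h4
      refine Or.inr ⟨a * (s * x * s⁻¹) * b * s, mul_mem h5 hs, ?_, _, mul_mem h2 (le_UD _ (inv_mem ha)), _,
        le_UD _ (inv_mem hb), by group⟩
      have h7 := (Sg.flip h6.1 h.1 (Ng_swap _) rfl).2 (hc ▸ Set.mem_singleton c)
      rw [hc, Set.ncard_singleton] at h7
      show ln Z (MulAut.conj _) = 0
      rw [map_mul, ln_eq F.inj (h6.mul h)]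
      omega

theorem exists_TH {γ : MulAut X} (hγ : γ ∈ Λ ⊓ NS Z) : ∃ x ∈ In (Λ ⊓ NS Z), ∃ δ ∈ TH Λ Z, γ = MulAut.conj x * δ := by
  induction hk : ln Z γ generalizing γ with
  | zero => exact ⟨1, one_mem _, γ, F.mem_TH.2 ⟨hγ, hk⟩, by rw [map_one, one_mul]⟩
  | succ k ih =>
    obtain ⟨s, hs, -, h⟩ := F.desc hγ.2 (by omega)
    obtain ⟨x, hx, δ, hδ, e⟩ := ih (mul_mem hs hγ) (by omega)
    exact ⟨s⁻¹ * x, mul_mem (inv_mem hs) hx, δ, hδ, by rw [map_mul, map_inv, mul_assoc, ← e, inv_mul_cancel_left]⟩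

theorem K_le : (⨆ a, KK Z a) ≤ UD Z ⊔ In (Λ ⊓ NS Z) := by
  classical
  refine iSup_le fun a => sup_le ((le_UD a).trans le_sup_left) fun y hy => ?_
  by_cases h1 : y = 1
  · rw [h1]; exact one_mem _
  obtain ⟨u, hu, v, hv, h2, -⟩ := F.low' a hy h1
  have h3 := mul_mem (mul_mem (mem_sup_left (inv_mem (le_UD a hu))) (mem_sup_right h2))
    (mem_sup_left (inv_mem (le_UD a hv)))
  rwa [show u⁻¹ * (u * y * v) * v⁻¹ = y by group] at h3

/-- **The data of the frame.** -/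
theorem yx {Γ : Subgroup (MulAut X)} (S : Supp Γ (Λ ⊓ NS Z)) (ho : Odd (Nat.card U))
    (hD : ∃ D ≤ TH Λ Z, IsPGroup 2 D ∧ ∀ u ∈ U, (∀ α ∈ D, α u = u) → u = 1) :
    YX Γ (TH Λ Z) (UD Z ⊔ In (Λ ⊓ NS Z)) (UD Z) (In (Λ ⊓ NS Z)) fun x => ln Z (MulAut.conj x) := by
  refine ⟨F.py.yd, ⟨TH_le.trans S.le, fun α hα => ?_⟩, fun α ⟨_, π, h, h0⟩ u hu => map_UD h h0 hu,
    fun α hα n hn => ⟨map_mem_In (TH_le hα) hn, ?_⟩, fun x => F.mem_TH, ho.of_dvd_nat (card_dvd_of_le F.UD_le),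
    hD.imp fun D h => ⟨h.1, h.2.1, fun u hu => h.2.2 u (F.UD_le hu)⟩⟩
  · obtain ⟨x, β, hβ, rfl⟩ := S.sup α hα
    obtain ⟨y, -, δ, hδ, rfl⟩ := F.exists_TH hβ
    exact ⟨x * y, δ, hδ, by rw [map_mul, mul_assoc]⟩
  · have h1 := (TH_le hα).2
    show ln Z (MulAut.conj (α n)) = ln Z (MulAut.conj n)
    rw [conj_map, mul_assoc, F.ln_mul hα (mul_mem hn.2 (inv_mem h1)), ← F.ln_inv (mul_mem hn.2 (inv_mem h1)),
      mul_inv_rev, inv_inv, F.ln_mul hα (inv_mem hn.2), F.ln_inv hn.2]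

end Fm

end Cfsg.Agent.MK.G
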