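import Cfsg.Agent.MK.G.Rgd
import Cfsg.Agent.MK.Basic

/-!
# MK-G: the generic theorem (helper76)

* `toW`, `relIndex_NP`, `exists_Q` : Sylow subgroups of `N`;
* `GD.congr`, `Pm.congr` : the signs of the frame do not matter;
* `in_eq`, `MM_eq` : the groups of the frame;
* `main (h : Steps) : Main`.
-/

set_option autoImplicit false
set_option linter.unusedSectionVars false

namespace Cfsg.Agent.MK.G

open Cfsg Subgroup CoxeterSystem Cfsg.Agent.ChevalleyStructure.CoxeterGeom Cfsg.Agent.Tits.Roots Cfsg.Agent.Nodes.Reps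
  Cfsg.Agent.Nodes.BNOf Cfsg.Agent.Nodes.Bruhat Cfsg.Agent.KFacts.RgdAut Cfsg.Agent.KFacts.RgdDiag
  Cfsg.Agent.ClosedExc.Frame Cfsg.Agent.ODD.QB

variable {I W Y ι : Type} [Fintype I] [DecidableEq I] [Group W] [Finite W] [Group Y] [Finite Y] [Fintype ι]
  {M : CoxeterMatrix I} {cs : CoxeterSystem M W} {A : I → I → ℤ} {h : IsCartan M A} {p : ℕ} {T : Subgroup Y}
  {n : I → Y} {X : (I → ℤ) → Subgroup Y} {β β' : ι → I → ℤ}

section weyl

variable (R : RGD cs h p T n X)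

/-- the map to the Weyl group -/
noncomputable def toW : NN cs R.nsys →* W :=
  MonoidHom.mk' (fun g => g.2.choose) fun a b =>
    rp_eq R (a * b).2.choose_spec (a.2.choose_spec.mul b.2.choose_spec)

theorem rp_toW (g : NN cs R.nsys) : Rp cs R.nsys (toW R g) g := g.2.choose_spec

theorem toW_surjective : Function.Surjective (toW R) := fun w => by
  obtain ⟨g, hg⟩ := exists_rp cs R.nsys w
  exact ⟨⟨g, w, hg⟩, rp_eq R (rp_toW R _) hg⟩

theorem NP_le (P : Subgroup W) : NP R P ≤ NN cs R.nsys := fun _ ⟨w, _, hw⟩ => ⟨w, hw⟩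

theorem NP_top : NP R ⊤ = NN cs R.nsys := le_antisymm (NP_le R ⊤) fun _ ⟨w, hw⟩ => ⟨w, mem_top w, hw⟩

theorem NP_subgroupOf (P : Subgroup W) : (NP R P).subgroupOf (NN cs R.nsys) = P.comap (toW R) := by
  ext g
  exact ⟨fun ⟨w, hw, hg⟩ => by rwa [rp_eq R hg (rp_toW R g)] at hw, fun hg => ⟨_, hg, rp_toW R g⟩⟩

theorem relIndex_NP (P P' : Subgroup W) : (NP R P').relIndex (NP R P) = P'.relIndex P := by
  rw [← relIndex_subgroupOf (NP_le R P), NP_subgroupOf, NP_subgroupOf, relIndex_comap,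
    map_comap_eq_self_of_surjective (toW_surjective R)]

theorem exists_Q {P : Subgroup W} (hP : ∃ S : Sylow 2 W, normalizer ((S : Subgroup W) : Set W) ≤ P) :
    ∃ Q ≤ NP R P, IsPGroup 2 Q ∧ Odd (Q.relIndex (NN cs R.nsys)) ∧
      ∀ x ∈ NN cs R.nsys, x ∈ normalizer (Q : Set Y) → x ∈ NP R P := by
  obtain ⟨S, hS⟩ := hP
  obtain ⟨Q, h1, -, h2, h3⟩ := H55.Sd.exists_syl (H := NP R S) IsPGroup.of_bot bot_le
  have h4 : (S : Subgroup W) ≤ (Q.subgroupOf (NN cs R.nsys)).map (toW R) := by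
    have h5 : (Q.subgroupOf (NN cs R.nsys)).map (toW R) ≤ S := by
      rintro _ ⟨g, hg, rfl⟩
      obtain ⟨w, hw, h6⟩ := h1 hg
      rwa [rp_eq R (rp_toW R g) h6]
    refine H55.Sd.le_of_odd h5 le_rfl S.isPGroup' (h3.of_dvd_nat ?_)
    rw [← relIndex_NP R]
    exact relIndex_dvd_of_le_left _ fun g hg => ⟨_, ⟨⟨g, NP_le R _ (h1 hg)⟩, hg, rfl⟩, rp_toW R _⟩
  refine ⟨Q, h1.trans (H491.Sd.NP_mono R (le_normalizer.trans hS)), h2, ?_, ?_⟩
  · rw [← relIndex_mul_relIndex _ _ _ h1 (NP_le R _), ← NP_top R, relIndex_NP, relIndex_top_right]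
    refine h3.mul ?_
    rw [← Nat.not_even_iff_odd, even_iff_two_dvd]
    exact S.not_dvd_index
  · rintro x ⟨w, hw⟩ hx
    refine ⟨w, hS (mem_normalizer_fintype fun s hs => ?_), hw⟩
    obtain ⟨q, hq, rfl⟩ := h4 hs
    obtain ⟨v, hv, h5⟩ := h1 ((mem_normalizer_iff.1 hx q).1 hq)
    rwa [rp_eq R ((hw.mul (rp_toW R q)).mul hw.inv) h5]

end weyl

/-! ### signs -/

theorem Mv.neg {γ : MulAut Y} {x y : I → ℤ} (H : Mv X γ x y) : Mv X γ (-x) (-y) :=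
  ⟨H.2, by rw [neg_neg, neg_neg]; exact H.1⟩

theorem Pm.congr (e : ∀ a, β' a = β a ∨ β' a = -β a) {γ : MulAut Y} (H : Pm X β γ) : Pm X β' γ := fun a => by
  obtain ⟨b, hb⟩ := H a
  refine ⟨b, ?_⟩
  rcases e a with e1 | e1 <;> rcases e b with e2 | e2 <;> rw [e1, e2]
  · exact hb
  · rw [neg_neg]; exact hb.symm
  · refine hb.symm.imp (fun h => ?_) Mv.neg
    have := h.neg
    rwa [neg_neg] at this
  · exact hb.imp Mv.neg Mv.neg

theorem pm_symm (e : ∀ a, β' a = β a ∨ β' a = -β a) (a : ι) : β a = β' a ∨ β a = -β' a :=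
  (e a).imp Eq.symm fun h => by rw [h, neg_neg]

theorem WD_congr (e : ∀ a, β' a = β a ∨ β' a = -β a) : WD cs h β' = WD cs h β :=
  le_antisymm (fun _ hw a => (hw a).imp fun b => pm_trans (pm_symm e a) (pm_symm e b))
    fun _ hw a => (hw a).imp fun b => pm_trans (e a) (e b)

theorem LZ_congr (e : ∀ a, β' a = β a ∨ β' a = -β a) (a : ι) : LZ X (β' a) = LZ X (β a) :=
  (e a).elim (fun h => by rw [h]) fun h => by rw [h, LZ_neg]

variable {R : RGD cs h p T n X}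

theorem MM_congr (e : ∀ a, β' a = β a ∨ β' a = -β a) : MM R β' = MM R β := by
  rw [MM_def, MM_def, WD_congr e, iSup_congr (LZ_congr e)]

theorem exists_pos' (hr : ∀ a, IsRoot cs h (β a)) :
    ∃ β' : ι → I → ℤ, (∀ a, β' a = β a ∨ β' a = -β a) ∧ ∀ a, 0 ≤ β' a := by
  have h1 : ∀ a, ∃ x : I → ℤ, (x = β a ∨ x = -β a) ∧ 0 ≤ x := fun a =>
    (hr a).pos_or_neg.elim (fun h0 => ⟨_, Or.inl rfl, h0⟩) fun h0 => ⟨_, Or.inr rfl, neg_nonneg.2 h0⟩
  choose β' h2 h3 using h1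
  exact ⟨β', h2, h3⟩

theorem root_congr (e : ∀ a, β' a = β a ∨ β' a = -β a) (hr : ∀ a, IsRoot cs h (β a)) (a : ι) : IsRoot cs h (β' a) :=
  (e a).elim (fun h => h ▸ hr a) fun h => h ▸ (hr a).neg

theorem rk_congr (hp : p.Prime) (e : ∀ a, β' a = β a ∨ β' a = -β a) (hr : ∀ a, IsRoot cs h (β a))
    (hk : ∀ a, Rk R (β a)) (a : ι) : Rk R (β' a) :=
  (e a).elim (fun h => h ▸ hk a) fun h => h ▸ (hk a).neg hp (hr a)

theorem GD.congr (e : ∀ a, β' a = β a ∨ β' a = -β a) (D : GD R β) : GD R β' :=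
  ⟨D.prime, D.odd, D.top, root_congr e D.root, rk_congr D.prime e D.root D.rk,
    fun a b hab => by rw [LZ_congr e, LZ_congr e]; exact D.orth a b hab, by rw [WD_congr e]; exact D.weyl, MM_congr (R := R) e ▸ D.syl,
    MM_congr (R := R) e ▸ D.ne⟩

/-! ### the groups of the frame -/

theorem ns_of_pm (hi : Function.Injective (Zr X β)) {γ : MulAut Y} (H : Pm X β γ) : γ ∈ NS (Zr X β) := by
  have h1 : ∀ a, ∃ (b : ι) (e : Bool), ∀ s y, γ y ∈ Zr X β (b, xor e s) ↔ y ∈ Zr X β (a, s) := fun a => by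
    obtain ⟨b, hb | hb⟩ := H a
    · exact ⟨b, false, fun s => by cases s; exacts [zc_iff hb.2, zc_iff hb.1]⟩
    · have h2 := hb.2
      rw [neg_neg] at h2
      exact ⟨b, true, fun s => by cases s; exacts [zc_iff h2, zc_iff hb.1]⟩
  choose b e he using h1
  exact (exists_acts hi b e he).imp fun _ h => h.1

theorem in_eq (hp : p.Prime) (hr : ∀ a, IsRoot cs h (β a)) (hi : Function.Injective (Zr X β))
    {Λ : Subgroup (MulAut Y)} (hΛ : In Λ = NN cs R.nsys) : In (Λ ⊓ NS (Zr X β)) = NP R (WD cs h β) := by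
  apply le_antisymm
  · rintro g ⟨h1, π, h2⟩
    obtain ⟨w, hw⟩ : g ∈ NN cs R.nsys := hΛ ▸ h1
    refine ⟨w, fun a => ⟨(π (a, true)).1, ?_⟩, hw⟩
    have h3 : zc (X (rep cs h w (β a))) = Zr X β (π (a, true)) := Subgroup.ext fun y => by
      have h4 := (zc_cj (R.conj_rp hw (hr a)) (g⁻¹ * y * g)).trans (h2.2 (a, true) (g⁻¹ * y * g)).symm
      rwa [MulAut.conj_apply, show g * (g⁻¹ * y * g) * g⁻¹ = y by group] at h4
    obtain ⟨⟨b, _ | _⟩, hx⟩ : ∃ x, π (a, true) = x := ⟨_, rfl⟩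
    · rw [hx] at h3 ⊢
      exact Or.inr (zc_inj R hp ((hr a).act w) (hr b).neg h3)
    · rw [hx] at h3 ⊢
      exact Or.inl (zc_inj R hp ((hr a).act w) (hr b) h3)
  · rintro g ⟨w, hw, hg⟩
    choose b hb using hw
    exact ⟨(hΛ ▸ ⟨w, hg⟩ : g ∈ In Λ), (acts_rp (R := R) hr hi hg hb).imp fun _ h => h.1⟩

theorem MM_eq (hp : p.Prime) (hr : ∀ a, IsRoot cs h (β a)) {U : Subgroup Y} {Λ : Subgroup (MulAut Y)}
    (hΛ : In Λ = NN cs R.nsys) (F : Fm U (In Λ) (Zr X β)) : UD (Zr X β) ⊔ In (Λ ⊓ NS (Zr X β)) = MM R β := by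
  refine le_antisymm (sup_le (iSup_le fun a => ?_) ?_) (sup_le F.K_le ?_)
  · exact (le_sup_left : _ ≤ LZ X (β a)).trans ((le_iSup (fun a => LZ X (β a)) a).trans le_sup_left)
  · rw [in_eq hp hr F.inj hΛ]; exact le_sup_right
  · rw [in_eq hp hr F.inj hΛ]; exact le_sup_right

theorem GD.N_ne (D : GD R β) : NN cs R.nsys ≠ ⊤ := fun hN => by
  have h1 : IsEmpty ι := ⟨fun a => by
    obtain ⟨w, i, -⟩ := D.root a
    obtain ⟨u, hu, h2⟩ := exists_ne_one R i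
    exact h2 (uniq_N R 1 (one_mem _) u (hN ▸ mem_top u) u (X_le_U R i hu) 1 (one_mem _) (by group)).symm⟩
  refine D.ne (eq_top_iff.2 (hN.ge.trans ?_))
  rintro g ⟨w, hw⟩
  exact mem_sup_right ⟨w, fun a => h1.elim a, hw⟩

theorem gd_of_pos (hI : StepI) (hY : StepY) {Γ : Subgroup (MulAut Y)} (c : Sit Y Γ) (D : GD R β) (h0 : ∀ a, 0 ≤ β a)
    (hA : Au R β Γ) (hnf : NF cs h X Γ) : Gd Y Γ := by
  have Y1 := yx_rgd R D.prime D.odd D.top c.inn hnf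
  have hΛ := YX.in_N Y1
  have F : Fm (RGD.Sup X (RGD.Pos cs h)) (In (Cj (NN cs R.nsys) ⊔ TR cs h X Γ)) (Zr X β) :=
    hΛ.symm ▸ fm_of D.prime D.root h0 D.rk D.orth
  have hle : Cj (NN cs R.nsys) ⊔ TR cs h X Γ ≤ Γ := sup_le (by rintro _ ⟨x, -, rfl⟩; exact c.inn x) Y1.supp.le
  have Y2 := F.yx (Γ := Γ) ⟨inf_le_left.trans hle, fun α hα => by
    obtain ⟨x, δ, hδ, rfl⟩ := Y1.supp.sup α hα
    obtain ⟨σ, h1⟩ := exists_diag R D.top hδ.2.1 hδ.2.2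
    obtain ⟨g, hg, h2⟩ := hA δ hδ.1 σ h1
    exact ⟨x * g⁻¹, _, ⟨mul_mem (mem_sup_left (conj_mem_Cj hg)) (mem_sup_right hδ), ns_of_pm F.inj h2⟩, by
      rw [map_mul, map_inv]; group⟩⟩ Y1.odd (by
    obtain ⟨E, h2, h3, h4, h5⟩ := hnf
    refine ⟨E, fun α hα => ⟨mem_sup_right (le_TR R h2 h4 hα), 1, ⟨fun _ _ => rfl, ?_⟩,
      Set.eq_empty_iff_forall_notMem.2 fun _ => notMem_Ng.2 rfl⟩, h3, fun u hu => cent_U R h4 h5 hu⟩
    rintro ⟨a, _ | _⟩
    exacts [zc_iff (h4 α hα _ (D.root a).neg), zc_iff (h4 α hα _ (D.root a))])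
  refine gd_of_yx hI hY c Y1 Y2 D.N_ne (by rw [MM_eq D.prime D.root hΛ F]; exact D.ne)
    (sup_le (by rintro _ ⟨x, hx, rfl⟩; exact hx.1) (TH_le.trans inf_le_left)) ?_
    (by rw [MM_eq D.prime D.root hΛ F]; exact D.syl)
  rw [in_eq D.prime D.root F.inj hΛ]
  exact exists_Q R D.weyl

/-- **The generic theorem.** -/
theorem gd_of (H : Steps) {Γ : Subgroup (MulAut Y)} (c : Sit Y Γ) (D : GD R β) (hA : Au R β Γ) (hnf : NF cs h X Γ) :
    Gd Y Γ := by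
  obtain ⟨β', e, h0⟩ := exists_pos' D.root
  exact gd_of_pos H.i H.y c (D.congr e) h0 (fun γ hγ σ h1 => (hA γ hγ σ h1).imp fun _ h2 => ⟨h2.1, h2.2.congr e⟩) hnf

theorem main (H : Steps) : Main := fun _ _ _ c D hA hnf => gd_of H c D hA hnf

end Cfsg.Agent.MK.G
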