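import Cfsg.Agent.MK.G.Defs
import Cfsg.Agent.MK.G.Frm

/-!
# MK-G: root group data (helper76)

* `lw R` : the length; `py_rgd`, `yx_rgd` : the data of the first step;
* `cent_U` : a group of automorphisms which fixes the root groups without fixed points has none in `U`;
* `zc_ne_bot`, `zc_inj`, `rp_of_low`, `Rk.neg`, `fm_of` : the frame of the roots.
-/

set_option autoImplicit false
set_option linter.unusedSectionVars false

namespace Cfsg.Agent.MK.G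

open Cfsg Subgroup CoxeterSystem Cfsg.Agent.ChevalleyStructure.CoxeterGeom Cfsg.Agent.Tits.Roots Cfsg.Agent.Nodes.Reps
  Cfsg.Agent.Nodes.BNOf Cfsg.Agent.Nodes.Bruhat Cfsg.Agent.Nodes.OppDec Cfsg.Agent.Nodes.NormalForm
  Cfsg.Agent.Nodes.StabComb Cfsg.Agent.KFacts.RgdOpp Cfsg.Agent.KFacts.RgdAut Cfsg.Agent.KFacts.RgdDiag
  Cfsg.Agent.ClosedExc.Frame Cfsg.Agent.ODD.QB

variable {I W Y ι : Type} [Fintype I] [DecidableEq I] [Group W] [Finite W] [Group Y] [Finite Y] [Fintype ι]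
  {M : CoxeterMatrix I} {cs : CoxeterSystem M W} {A : I → I → ℤ} {h : IsCartan M A} {p : ℕ} {T : Subgroup Y}
  {n : I → Y} {X : (I → ℤ) → Subgroup Y}

theorem length_hat_le (σ : Equiv.Perm I) (hσ : ∀ i j, M (σ i) (σ j) = M i j) (w : W) :
    cs.length (hat cs σ hσ w) ≤ cs.length w := by
  have h1 : ∀ ω : List I, hat cs σ hσ (cs.wordProd ω) = cs.wordProd (ω.map σ) := fun ω => by
    induction ω with
    | nil => rw [List.map_nil, wordProd_nil, map_one]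
    | cons i ω ih => rw [List.map_cons, wordProd_cons, wordProd_cons, map_mul, hat_simple, ih]
  obtain ⟨ω, hω, rfl⟩ := cs.exists_isReduced w
  rw [h1]
  refine (cs.length_wordProd_le _).trans ?_
  rw [List.length_map]
  exact le_of_eq hω.symm

theorem map_Sup {α : MulAut Y} {S : Set (I → ℤ)} {K : Subgroup Y} (hS : ∀ x ∈ S, ∀ y ∈ X x, α y ∈ K) {y : Y}
    (hy : y ∈ RGD.Sup X S) : α y ∈ K :=
  (RGD.Sup_le (K := K.comap α.toMonoidHom) fun x hx y hy => hS x hx y hy) hy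

theorem fix_Sup {α : MulAut Y} {S : Set (I → ℤ)} (hS : ∀ x ∈ S, Fix α (X x)) : Fix α (RGD.Sup X S) := fun y =>
  ⟨fun hy => by
    have h1 := map_Sup (α := α⁻¹) (fun x hx y hy => RGD.le_Sup hx (((hS x hx).inv y).2 hy)) hy
    rwa [MulAut.inv_apply_self] at h1,
  map_Sup fun x hx y hy => RGD.le_Sup hx ((hS x hx y).2 hy)⟩

/-- the automorphisms in `Γ` which fix `U` and `U⁻` -/
def TR (cs : CoxeterSystem M W) (h : IsCartan M A) (X : (I → ℤ) → Subgroup Y) (Γ : Subgroup (MulAut Y)) :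
    Subgroup (MulAut Y) where
  carrier := {α | α ∈ Γ ∧ Fix α (RGD.Sup X (RGD.Pos cs h)) ∧ Fix α (UN cs h X)}
  one_mem' := ⟨one_mem _, fun _ => Iff.rfl, fun _ => Iff.rfl⟩
  mul_mem' := fun ⟨h1, h2, h3⟩ ⟨h4, h5, h6⟩ => ⟨mul_mem h1 h4, h2.mul h5, h3.mul h6⟩
  inv_mem' := fun ⟨h1, h2, h3⟩ => ⟨inv_mem h1, h2.inv, h3.inv⟩

variable (R : RGD cs h p T n X)

open Classical in
/-- the length -/
noncomputable def lw (g : Y) : ℕ := if hg : ∃ w, Rp cs R.nsys w g then cs.length hg.choose else 0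

theorem lw_eq {w : W} {g : Y} (hg : Rp cs R.nsys w g) : lw R g = cs.length w := by
  have h1 : ∃ w, Rp cs R.nsys w g := ⟨w, hg⟩
  exact (dif_pos h1).trans (by rw [rp_eq R h1.choose_spec hg])

theorem uniq_N : ∀ k ∈ NN cs R.nsys, ∀ k' ∈ NN cs R.nsys, ∀ u ∈ RGD.Sup X (RGD.Pos cs h),
    ∀ v ∈ RGD.Sup X (RGD.Pos cs h), u * k * v = k' → k = k' := by
  rintro k ⟨w, hw⟩ _ ⟨w', hw'⟩ u hu v hv rfl
  obtain rfl : w = w' := Cell.unique R ⟨u, RGD.U_le_B hu, k, hw, v, RGD.U_le_B hv, rfl⟩ (cell_of_rp hw')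
  obtain ⟨b, hb, c, hc, rfl⟩ := exists_PW_NW R w hv
  have h1 : k * b * k⁻¹ ∈ RGD.Sup X (RGD.Pos cs h) :=
    conj_mem_Sup R hw (S' := RGD.Pos cs h) (fun x hx => hx.1) (fun x hx => ⟨hx.1.act _, hx.2.2⟩) hb
  exact (normal_form_unique R (one_mem _) (mul_mem hu h1) hw' hw (one_mem _) hc (by group)).2.1.symm

include R

theorem exists_VX (i : I) {u : Y} (hu : u ∈ RGD.Sup X (RGD.Pos cs h)) :
    ∃ v ∈ RGD.Sup X (RGD.PosNe cs h i), ∃ x ∈ X (sr i), u = v * x := by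
  rw [R.Upos_eq i, sup_comm] at hu
  exact H55.Sd.exists_mul_of_sup (fun x hx v hv => (mem_normalizer_iff.1 (R.X_le_normalizer_V i hx) v).1 hv) hu

theorem conj_V {i : I} {s : Y} (hs : Rp cs R.nsys (cs.simple i) s) {v : Y} (hv : v ∈ RGD.Sup X (RGD.PosNe cs h i)) :
    s * v * s⁻¹ ∈ RGD.Sup X (RGD.Pos cs h) :=
  conj_mem_Sup R hs (S' := RGD.Pos cs h) (fun _ hx => hx.1)
    (fun _ hx => ⟨hx.1.act _, hx.1.simple_nonneg hx.2.1 i hx.2.2⟩) hv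

theorem X_le_U (i : I) : X (sr i) ≤ RGD.Sup X (RGD.Pos cs h) :=
  RGD.le_Sup (S := RGD.Pos cs h) ⟨isRoot_sr cs h i, sr_nonneg i⟩

theorem py_rgd : PY (RGD.Sup X (RGD.Pos cs h)) (NN cs R.nsys) (lw R) := by
  have h1 : ∀ s ∈ NN cs R.nsys, lw R s = 1 → ∃ i, Rp cs R.nsys (cs.simple i) s := by
    rintro s ⟨w, hw⟩ hl
    rw [lw_eq R hw, cs.length_eq_one_iff] at hl
    obtain ⟨i, rfl⟩ := hl
    exact ⟨i, hw⟩
  refine ⟨uniq_N R, by rw [lw_eq R rp_one, cs.length_one], ?_, ?_, ?_, ?_, ?_, ?_⟩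
  · rintro k ⟨w, hw⟩
    rw [lw_eq R hw, lw_eq R hw.inv, cs.length_inv]
  · rintro t ⟨w, hw⟩ hl
    rw [lw_eq R hw, cs.length_eq_zero_iff] at hl
    subst hl
    refine ⟨fun u hu => (mem_normalizer_iff.1 (R.T_le_normalizer_U hw.mem_of_one) u).1 hu, ?_⟩
    rintro k ⟨v, hv⟩
    rw [lw_eq R (hw.mul hv), lw_eq R hv, one_mul]
  · rintro s hs hl k ⟨w, hw⟩
    obtain ⟨i, hi⟩ := h1 s hs hl
    rw [lw_eq R (hi.mul hw), lw_eq R hw]
    exact cs.length_simple_mul w i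
  · rintro k ⟨w, hw⟩ hl
    rw [lw_eq R hw, Ne, cs.length_eq_zero_iff] at hl
    obtain ⟨i, hi⟩ := cs.exists_leftDescent_of_ne_one hl
    have h2 := rp_simple cs R.nsys i
    exact ⟨n i, ⟨_, h2⟩, by rw [lw_eq R h2, cs.length_simple], by
      rw [lw_eq R (h2.mul hw), lw_eq R hw]; exact cs.isLeftDescent_iff.1 hi⟩
  · rintro s hs hl k ⟨w, hw⟩ hl' u hu
    obtain ⟨i, hi⟩ := h1 s hs hl
    rw [lw_eq R (hi.mul hw), lw_eq R hw] at hl'
    obtain ⟨v, hv, x, hx, rfl⟩ := exists_VX R i hu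
    refine ⟨_, conj_V R hi hv, k⁻¹ * x * k, RGD.le_Sup (S := RGD.Pos cs h) ⟨(isRoot_sr cs h i).act w⁻¹, ?_⟩
      (R.conj_mem' hw (isRoot_sr cs h i) hx), by group⟩
    refine nonneg_of_lt cs h w⁻¹ i ?_
    rw [cs.length_inv, ← cs.length_inv (w⁻¹ * cs.simple i), mul_inv_rev, inv_inv, cs.inv_simple]
    omega
  · intro s hs hl u hu
    obtain ⟨i, hi⟩ := h1 s hs hl
    obtain ⟨v, hv, x, hx, rfl⟩ := exists_VX R i hu
    have h2 := conj_V R hi hv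
    have e : s * (v * x) * s⁻¹ = s * v * s⁻¹ * (s * x * s⁻¹) := by group
    have h3 := R.conj_mem hi (isRoot_sr cs h i) hx
    rw [rep_simple_sr] at h3
    by_cases h4 : s * x * s⁻¹ = 1
    · left
      rwa [e, h4, mul_one]
    · obtain ⟨a, ha, t, ht, b, hb, e'⟩ := R.rk1 i _ h3 h4
      have h5 := ((rp_of_mem (cs := cs) (hN := R.nsys) ht).mul (rp_simple cs R.nsys i)).mul hi
      refine Or.inr ⟨t * n i * s, ⟨_, h5⟩, ?_, _, mul_mem h2 (X_le_U R i ha), b, X_le_U R i hb, by rw [e, e']; group⟩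
      rw [lw_eq R h5, one_mul, cs.simple_mul_simple_self, cs.length_one]

theorem sup_eq_top (hG : GG cs h T X = ⊤) : RGD.Sup X (RGD.Pos cs h) ⊔ NN cs R.nsys = ⊤ := by
  have hB : RGD.B cs h T X ≤ RGD.Sup X (RGD.Pos cs h) ⊔ NN cs R.nsys :=
    sup_le (fun t ht => mem_sup_right ⟨1, rp_of_mem ht⟩) le_sup_left
  refine eq_top_iff.2 fun g _ => ?_
  obtain ⟨w, a, ha, k, hk, b, hb, rfl⟩ := (mem_GG R).1 (hG ▸ mem_top g : g ∈ GG cs h T X)
  exact mul_mem (mul_mem (hB ha) (mem_sup_right ⟨w, hk⟩)) (hB hb)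

/-- **No fixed points in `U`.** -/
theorem cent_U {D : Subgroup (MulAut Y)} (hD : ∀ α ∈ D, ∀ x, IsRoot cs h x → Fix α (X x))
    (h0 : ∀ x, IsRoot cs h x → ∀ u ∈ X x, (∀ α ∈ D, α u = u) → u = 1) {u : Y} (hu : u ∈ RGD.Sup X (RGD.Pos cs h))
    (hf : ∀ α ∈ D, α u = u) : u = 1 := by
  have key : ∀ (ω : List I) (g : Y), Rp cs R.nsys (cs.wordProd ω) g → g * u * g⁻¹ ∈ RGD.Sup X (RGD.Pos cs h) := by
    intro ω
    induction ω with
    | nil =>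
      intro g hg
      rw [wordProd_nil] at hg
      exact (mem_normalizer_iff.1 (R.T_le_normalizer_U hg.mem_of_one) u).1 hu
    | cons i ω ih =>
      intro g hg
      obtain ⟨k, hk⟩ := exists_rp cs R.nsys (cs.wordProd ω)
      have hs := hg.mul hk.inv
      rw [wordProd_cons, mul_inv_cancel_right] at hs
      obtain ⟨v, hv, x, hx, e⟩ := exists_VX R i (ih k hk)
      have h1 : k⁻¹ * x * k = 1 := by
        refine h0 _ ((isRoot_sr cs h i).act _) _ (R.conj_mem' hk (isRoot_sr cs h i) hx) fun α hα => ?_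
        obtain ⟨γ, hγ⟩ : ∃ γ : MulAut Y, γ = MulAut.conj k * α * MulAut.conj k⁻¹ := ⟨_, rfl⟩
        have h2 : ∀ y, γ y = k * α (k⁻¹ * y * k) * k⁻¹ := fun y => by
          rw [hγ, MulAut.mul_apply, MulAut.mul_apply, MulAut.conj_apply, MulAut.conj_apply, inv_inv]
        have h3 : ∀ z, IsRoot cs h z → ∀ y ∈ X z, γ y ∈ X z := fun z hz y hy => by
          have h4 := R.conj_mem hk (hz.act _) ((hD α hα _ (hz.act _) _).2 (R.conj_mem' hk hz hy))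
          rwa [rep_apply_inv, ← h2] at h4
        have h4 : γ v * γ x = v * x := by
          rw [← map_mul, ← e, h2, show k⁻¹ * (k * u * k⁻¹) * k = u by group, hf α hα]
        have h5 : γ v ∈ RGD.Sup X (RGD.PosNe cs h i) := map_Sup (fun z hz y hy => RGD.le_Sup hz (h3 z hz.1 y hy)) hv
        have h6 := eq_one_of_mem_PosNe R (mul_mem hx (inv_mem (h3 _ (isRoot_sr cs h i) x hx))) (by
          rw [show x * (γ x)⁻¹ = v⁻¹ * γ v by rw [mul_inv_eq_iff_eq_mul, mul_assoc, h4, inv_mul_cancel_left]]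
          exact mul_mem (inv_mem hv) h5)
        rw [mul_inv_eq_one, h2] at h6
        calc α (k⁻¹ * x * k) = k⁻¹ * (k * α (k⁻¹ * x * k) * k⁻¹) * k := by group
          _ = _ := by rw [← h6]
      have h2 : x = 1 := by
        rw [mul_assoc, inv_mul_eq_one, eq_comm, mul_eq_right] at h1
        exact h1
      rw [h2, mul_one] at e
      have h3 := conj_V R hs hv
      rwa [← e, show g * k⁻¹ * (k * u * k⁻¹) * (g * k⁻¹)⁻¹ = g * u * g⁻¹ by group] at h3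
  obtain ⟨ω, hω⟩ := cs.wordProd_surjective (Tits.Core.w0 cs)
  obtain ⟨g, hg⟩ := exists_rp cs R.nsys (Tits.Core.w0 cs)
  have h1 := eq_one_of_mem_U_of_mem_BN R (key ω g (hω ▸ hg)) (UN_le_BN (cj_U R hg ▸ conj_mem_cj.2 hu))
  rwa [mul_inv_eq_one, mul_eq_left] at h1

theorem supp_TR (hp : p.Prime) (hG : GG cs h T X = ⊤) {Γ : Subgroup (MulAut Y)} (hΓ : ∀ x, MulAut.conj x ∈ Γ) :
    Supp Γ (TR cs h X Γ) := by
  have : Fact p.Prime := ⟨hp⟩
  refine ⟨fun _ hα => hα.1, fun α hα => ?_⟩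
  obtain ⟨g, hg⟩ : ∃ g : Y, (RGD.Sup X (RGD.Pos cs h)).map α.toMonoidHom = cj g (RGD.Sup X (RGD.Pos cs h)) := by
    have hU : IsPGroup p (RGD.Sup X (RGD.Pos cs h)) := R.isPGroup_Upos
    obtain ⟨S, hS⟩ := hU.exists_le_sylow
    have hS' : (S : Subgroup Y) = RGD.Sup X (RGD.Pos cs h) :=
      eq_U_of_isPGroup R S.isPGroup' hS (by rw [hG]; exact le_top)
    obtain ⟨g, hg⟩ := MulAction.exists_smul_eq Y S (S.mapSurjective (f := α.toMonoidHom) α.surjective)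
    refine ⟨g, ?_⟩
    rw [← hS']
    exact (congrArg Sylow.toSubgroup hg).symm
  have h1 : Fix (MulAut.conj g⁻¹ * α) (RGD.Sup X (RGD.Pos cs h)) := by
    rw [fix_iff]
    have h2 : (MulAut.conj g⁻¹ * α).toMonoidHom = (MulAut.conj g⁻¹).toMonoidHom.comp α.toMonoidHom := rfl
    rw [h2, ← Subgroup.map_map, hg]
    exact cj_inv_cj g _
  obtain ⟨u, -, hU, -, hUN, -, -⟩ := exists_frame R hG h1
  exact ⟨g * u⁻¹, _, ⟨mul_mem (hΓ u) (mul_mem (hΓ _) hα), hU, hUN⟩, by rw [map_mul, map_inv, map_inv]; group⟩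

theorem le_TR {Γ D : Subgroup (MulAut Y)} (hΓ : D ≤ Γ) (hD : ∀ α ∈ D, ∀ x, IsRoot cs h x → Fix α (X x)) :
    D ≤ TR cs h X Γ := fun α hα => ⟨hΓ hα, fix_Sup fun x hx => hD α hα x hx.1, fix_Sup fun x hx => hD α hα x hx.1⟩

theorem odd_U (hp : p.Prime) (hp2 : p ≠ 2) : Odd (Nat.card (RGD.Sup X (RGD.Pos cs h))) := by
  have : Fact p.Prime := ⟨hp⟩
  obtain ⟨k, hk⟩ := R.isPGroup_Upos.exists_card_eq
  rw [hk]
  exact (hp.odd_of_ne_two hp2).pow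

/-- **The data of the first step.** -/
theorem yx_rgd (hp : p.Prime) (hp2 : p ≠ 2) (hG : GG cs h T X = ⊤) {Γ : Subgroup (MulAut Y)}
    (hΓ : ∀ x, MulAut.conj x ∈ Γ) (hnf : NF cs h X Γ) :
    YX Γ (TR cs h X Γ) ⊤ (RGD.Sup X (RGD.Pos cs h)) (NN cs R.nsys) (lw R) := by
  have h1 : ∀ α ∈ TR cs h X Γ, ∀ k ∈ NN cs R.nsys, α k ∈ NN cs R.nsys ∧ lw R (α k) ≤ lw R k := by
    rintro α ⟨-, h2, h3⟩ k ⟨w, hw⟩
    obtain ⟨σ, D⟩ := exists_diag R hG h2 h3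
    have h4 := D.rp' (R := R) (D.matrix (R := R)) hw
    exact ⟨⟨_, h4⟩, by rw [lw_eq R h4, lw_eq R hw]; exact length_hat_le _ _ w⟩
  refine ⟨sup_eq_top R hG ▸ (py_rgd R).yd, supp_TR R hp hG hΓ, fun α hα u hu => (hα.2.1 u).2 hu,
    fun α hα k hk => ⟨(h1 α hα k hk).1, le_antisymm (h1 α hα k hk).2 ?_⟩, fun x => ⟨fun hx => ?_, ?_⟩,
    odd_U R hp hp2, ?_⟩
  · have h2 := (h1 _ (inv_mem hα) _ (h1 α hα k hk).1).2
    rwa [MulAut.inv_apply_self] at h2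
  · have h2 : x ∈ RGD.B cs h T X := normalizer_U' R hG ▸ fix_conj.1 hx.2.1
    have h3 := normalizer_U' (opp R) (by rw [GG_opp, hG])
    rw [U_opp, B_opp] at h3
    have h4 : x ∈ T := B_inf_BN R ▸ (⟨h2, h3 ▸ fix_conj.1 hx.2.2⟩ : x ∈ RGD.B cs h T X ⊓ BN cs h T X)
    exact ⟨⟨1, rp_of_mem h4⟩, by rw [lw_eq R (rp_of_mem h4), cs.length_one]⟩
  · rintro ⟨⟨w, hw⟩, hl⟩
    rw [lw_eq R hw, cs.length_eq_zero_iff] at hl
    subst hl
    exact ⟨hΓ x, fix_conj.2 (R.T_le_normalizer_U hw.mem_of_one),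
      fix_conj.2 (R.T_le_normalizer (S := Neg cs h) (fun _ hx => hx.1) hw.mem_of_one)⟩
  · obtain ⟨D, h2, h3, h4, h5⟩ := hnf
    exact ⟨D, le_TR R h2 h4, h3, fun u hu => cent_U R h4 h5 hu⟩

/-! ### the poles -/

theorem zc_ne_bot (hp : p.Prime) {x : I → ℤ} (hx : IsRoot cs h x) : zc (X x) ≠ ⊥ := by
  have : Fact p.Prime := ⟨hp⟩
  have := (nontrivial_iff_ne_bot _).2 (X_ne_bot R hx)
  obtain ⟨⟨z, hz⟩, h1⟩ := @exists_ne _ (R.pgrp' hx).center_nontrivial 1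
  refine ne_bot_iff_exists_ne_one.2 ⟨⟨z, mem_zc.2 ⟨z.2, fun y hy => ?_⟩⟩, fun h2 => h1 (Subtype.ext (Subtype.ext ?_))⟩
  · exact congrArg Subtype.val (mem_center_iff.1 hz ⟨y, hy⟩)
  · have h3 := congrArg Subtype.val h2
    exact h3

theorem zc_inj (hp : p.Prime) {x y : I → ℤ} (hx : IsRoot cs h x) (hy : IsRoot cs h y) (e : zc (X x) = zc (X y)) :
    x = y := by
  by_contra h1
  refine zc_ne_bot R hp hx (eq_bot_iff.2 ?_)
  rw [← X_inf_X R hx hy h1]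
  exact le_inf inf_le_left (e.le.trans inf_le_left)

theorem rp_of_low {w : W} {i : I} {y u v : Y} (hy : y ∈ X (-rep cs h w (sr i))) (h1 : y ≠ 1)
    (hu : u ∈ X (rep cs h w (sr i))) (hv : v ∈ X (rep cs h w (sr i))) (hN : u * y * v ∈ NN cs R.nsys) :
    Rp cs R.nsys (w * cs.simple i * w⁻¹) (u * y * v) := by
  obtain ⟨g, hg⟩ := exists_rp cs R.nsys w
  have hr := (isRoot_sr cs h i).act w
  have h2 := R.conj_mem' hg hr.neg hy
  have h3 := R.conj_mem' hg hr hu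
  have h4 := R.conj_mem' hg hr hv
  rw [rep_inv_apply] at h3 h4
  rw [map_neg, rep_inv_apply] at h2
  obtain ⟨a, ha, t, ht, b, hb, e⟩ := R.rk1 i _ h2 fun h5 => h1 (by
    rwa [mul_assoc, inv_mul_eq_one, eq_comm, mul_eq_right] at h5)
  have h5 := (rp_of_mem (cs := cs) (hN := R.nsys) ht).mul (rp_simple cs R.nsys i)
  have h6 := uniq_N R _ ⟨_, h5⟩ _ (mul_mem (mul_mem (inv_mem ⟨w, hg⟩) hN) ⟨w, hg⟩) _ (X_le_U R i (mul_mem h3 ha)) _
    (X_le_U R i (mul_mem hb h4)) (by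
      rw [show g⁻¹ * (u * y * v) * g = g⁻¹ * u * g * (g⁻¹ * y * g) * (g⁻¹ * v * g) by group, e]; group)
  have h7 := (hg.mul h5).mul hg.inv
  rwa [h6, one_mul, show g * (g⁻¹ * (u * y * v) * g) * g⁻¹ = u * y * v by group] at h7

theorem cj_of_low {x : I → ℤ} (hx : IsRoot cs h x) {y u v : Y} (hy : y ∈ X (-x)) (h1 : y ≠ 1) (hu : u ∈ X x)
    (hv : v ∈ X x) (hN : u * y * v ∈ NN cs R.nsys) :
    cj (u * y * v) (X x) = X (-x) ∧ cj (u * y * v) (X (-x)) = X x := by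
  obtain ⟨w, i, rfl⟩ := id hx
  have h2 := rp_of_low R hy h1 hu hv hN
  have h3 : rep cs h (w * cs.simple i * w⁻¹) (rep cs h w (sr i)) = -rep cs h w (sr i) := by
    rw [rep_mul_apply, rep_inv_apply, rep_mul_apply, rep_simple_sr, map_neg]
  exact ⟨by rw [R.conj_rp h2 hx, h3], by rw [R.conj_rp h2 hx.neg, map_neg, h3, neg_neg]⟩

variable {R}

theorem Rk.exists_m (hp : p.Prime) {x : I → ℤ} (hx : IsRoot cs h x) (H : Rk R x) :
    ∃ m ∈ NN cs R.nsys, m ∈ LZ X x ∧ cj m (X x) = X (-x) ∧ cj m (X (-x)) = X x := by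
  obtain ⟨⟨y, hy⟩, h1⟩ := ne_bot_iff_exists_ne_one.1 (zc_ne_bot R hp hx.neg)
  have h2 : y ≠ 1 := fun h => h1 (Subtype.ext h)
  obtain ⟨u, hu, v, hv, h3⟩ := H y hy h2
  exact ⟨_, h3, mul_mem (mul_mem (mem_sup_left hu) (mem_sup_right hy)) (mem_sup_left hv),
    cj_of_low R hx hy.1 h2 hu.1 hv.1 h3⟩

theorem Rk.neg (hp : p.Prime) {x : I → ℤ} (hx : IsRoot cs h x) (H : Rk R x) : Rk R (-x) := by
  obtain ⟨m, hm, -, h1, h2⟩ := H.exists_m hp hx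
  intro y hy h3
  rw [neg_neg] at hy
  obtain ⟨u, hu, v, hv, h4⟩ := H _ ((zc_cj h1 y).2 hy) fun h => h3 (by rwa [mul_inv_eq_one, mul_eq_left] at h)
  have h5 : ∀ u ∈ zc (X x), m⁻¹ * u * m ∈ zc (X (-x)) := fun u hu => (zc_cj h2 _).1 (by
    rwa [show m * (m⁻¹ * u * m) * m⁻¹ = u by group])
  refine ⟨_, h5 u hu, _, h5 v hv, ?_⟩
  rw [show m⁻¹ * u * m * y * (m⁻¹ * v * m) = m⁻¹ * (u * (m * y * m⁻¹) * v) * m by group]
  exact mul_mem (mul_mem (inv_mem hm) h4) hm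

/-- **The frame of the roots.** -/
theorem fm_of (hp : p.Prime) {β : ι → I → ℤ} (hr : ∀ a, IsRoot cs h (β a)) (h0 : ∀ a, 0 ≤ β a)
    (hk : ∀ a, Rk R (β a)) (ho : ∀ a b, a ≠ b → ∀ u ∈ LZ X (β a), ∀ v ∈ LZ X (β b), Commute u v) :
    Fm (RGD.Sup X (RGD.Pos cs h)) (NN cs R.nsys) (Zr X β) := by
  refine ⟨?_, ho, fun a y hy => RGD.le_Sup (S := RGD.Pos cs h) ⟨hr a, h0 a⟩ hy.1, fun a => zc_ne_bot R hp (hr a).neg,
    fun a y hy h1 => ?_, uniq_N R⟩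
  · rintro ⟨a, s⟩ ⟨b, s'⟩ e
    have h1 : ∀ a (s : Bool), IsRoot cs h (cond s (β a) (-β a)) := fun a s => by
      cases s
      exacts [(hr a).neg, hr a]
    have h2 : cond s (β a) (-β a) = cond s' (β b) (-β b) := zc_inj R hp (h1 a s) (h1 b s') e
    have h3 : s = s' ∧ β a = β b := by
      cases s <;> cases s'
      · exact ⟨rfl, neg_injective h2⟩
      · exact absurd (neg_nonneg.1 ((h0 b).trans_eq h2.symm)) ((hr a).not_pos_neg (h0 a))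
      · exact absurd (neg_nonneg.1 ((h0 a).trans_eq h2)) ((hr b).not_pos_neg (h0 b))
      · exact ⟨rfl, h2⟩
    by_contra h4
    have h5 : a ≠ b := fun h5 => h4 (Prod.ext h5 h3.1)
    obtain ⟨m, -, hm, h6, -⟩ := (hk a).exists_m hp (hr a)
    refine zc_ne_bot R hp (hr a) (eq_bot_iff.2 fun y hy => ?_)
    rw [← X_inf_X R (hr a) (hr a).neg (H491.Sd.root_ne_neg (hr a))]
    refine ⟨hy.1, ?_⟩
    have h7 : m * y * m⁻¹ ∈ X (-β a) := h6 ▸ conj_mem_cj.2 hy.1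
    rwa [(ho a b h5 m hm y (h3.2 ▸ mem_sup_left hy)).eq, mul_inv_cancel_right] at h7
  · obtain ⟨u, hu, v, hv, h2⟩ := hk a y hy h1
    obtain ⟨h3, h4⟩ := cj_of_low R (hr a) hy.1 h1 hu.1 hv.1 h2
    refine ⟨u, hu, v, hv, h2, fun s z => ?_⟩
    cases s
    exacts [zc_cj h4 z, zc_cj h3 z]

end Cfsg.Agent.MK.G
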