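import Cfsg.Agent.MK.G.Weyl

/-!
# MK-G: tools, the group (helper76)

* `Rk.conj`, `rk_of_comm`, `rk_of_nd`, `zc_eq`, `LZ_le`, `f1_of_frameData`;
* `nf_of_noFix`, `syl_of_dg`, `odd_MM_of_le`, `odd_MM_of_MF`;
* `F1.ne_of_WD`, `F1.ne_of_comm`, `F1.ne_of_empty`, `F1.ne_of_two`.
-/

set_option autoImplicit false
set_option linter.unusedSectionVars false

namespace Cfsg.Agent.MK.G

open Cfsg Subgroup CoxeterSystem Cfsg.Agent.ChevalleyStructure.CoxeterGeom Cfsg.Agent.Tits.Roots Cfsg.Agent.Nodes.Reps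
  Cfsg.Agent.Nodes.BNOf Cfsg.Agent.Nodes.Bruhat Cfsg.Agent.Nodes.OppDec Cfsg.Agent.KFacts.RgdOpp
  Cfsg.Agent.KFacts.RgdAut Cfsg.Agent.KFacts.RgdDiag Cfsg.Agent.ClosedExc.Frame Cfsg.Agent.ODD.QB Cfsg.Agent.H310.OQ

variable {I W Y ι : Type} [Fintype I] [DecidableEq I] [Group W] [Finite W] [Group Y] [Finite Y] [Fintype ι]
  {M : CoxeterMatrix I} {cs : CoxeterSystem M W} {A : I → I → ℤ} {h : IsCartan M A} {p : ℕ} {T : Subgroup Y}
  {n : I → Y} {X : (I → ℤ) → Subgroup Y} {β : ι → I → ℤ} {R : RGD cs h p T n X}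

/-! ### rank one -/

theorem zc_eq {H : Subgroup Y} (hc : ∀ a ∈ H, ∀ b ∈ H, a * b = b * a) : zc H = H :=
  inf_eq_left.2 fun y hy x hx => hc x hx y hy

theorem LZ_le (x : I → ℤ) : LZ X x ≤ Nodes.FreeTorus.LL X x := sup_le_sup inf_le_left inf_le_left

theorem Rk.conj {x : I → ℤ} (hx : IsRoot cs h x) (H : Rk R x) (w : W) : Rk R (rep cs h w x) := by
  obtain ⟨g, hg⟩ := exists_rp cs R.nsys w
  intro y hy h1
  rw [← map_neg, ← cj_zc (R.conj_rp hg hx.neg), mem_cj] at hy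
  obtain ⟨u, hu, v, hv, h2⟩ := H _ hy fun h3 => h1 (by rwa [mul_assoc, inv_mul_eq_one, eq_comm, mul_eq_right] at h3)
  refine ⟨_, (zc_cj (R.conj_rp hg hx) u).2 hu, _, (zc_cj (R.conj_rp hg hx) v).2 hv, ?_⟩
  rw [show g * u * g⁻¹ * y * (g * v * g⁻¹) = g * (u * (g⁻¹ * y * g) * v) * g⁻¹ by group]
  exact mul_mem (mul_mem ⟨w, hg⟩ h2) ⟨_, hg.inv⟩

theorem comm_conj (R : RGD cs h p T n X) {x : I → ℤ} (hx : IsRoot cs h x) (hc : ∀ a ∈ X x, ∀ b ∈ X x, a * b = b * a) (w : W) :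
    ∀ a ∈ X (rep cs h w x), ∀ b ∈ X (rep cs h w x), a * b = b * a := by
  obtain ⟨g, hg⟩ := exists_rp cs R.nsys w
  rw [← R.conj_rp hg hx]
  rintro _ ⟨a, ha, rfl⟩ _ ⟨b, hb, rfl⟩
  rw [← map_mul, hc a ha b hb, map_mul]

theorem comm_neg (R : RGD cs h p T n X) {x : I → ℤ} (hx : IsRoot cs h x) (hc : ∀ a ∈ X x, ∀ b ∈ X x, a * b = b * a) :
    ∀ a ∈ X (-x), ∀ b ∈ X (-x), a * b = b * a := by
  obtain ⟨w, i, rfl⟩ := id hx
  have h1 := comm_conj R hx hc (w * cs.simple i * w⁻¹)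
  rwa [rep_mul_apply, rep_inv_apply, rep_mul_apply, rep_simple_sr, map_neg] at h1

theorem LZ_eq (R : RGD cs h p T n X) {x : I → ℤ} (hx : IsRoot cs h x) (hc : ∀ a ∈ X x, ∀ b ∈ X x, a * b = b * a) :
    LZ X x = Nodes.FreeTorus.LL X x :=
  congrArg₂ (· ⊔ ·) (zc_eq hc) (zc_eq (comm_neg R hx hc))

variable (R) in
/-- **Abelian root groups.** -/
theorem rk_of_comm {x : I → ℤ} (hx : IsRoot cs h x) (hc : ∀ a ∈ X x, ∀ b ∈ X x, a * b = b * a) : Rk R x := by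
  obtain ⟨w, i, rfl⟩ := id hx
  have h1 := comm_conj R hx hc w⁻¹
  rw [rep_inv_apply] at h1
  refine Rk.conj (isRoot_sr cs h i) (fun y hy h2 => ?_) w
  obtain ⟨a, ha, t, ht, b, hb, rfl⟩ := R.rk1 i y hy.1 h2
  rw [zc_eq h1]
  refine ⟨_, inv_mem ha, _, inv_mem hb, ?_⟩
  rw [show a⁻¹ * (a * t * n i * b) * b⁻¹ = t * n i by group]
  exact ⟨_, (rp_of_mem ht).mul (rp_simple cs R.nsys i)⟩

/-- **Nodes of type `SL₂`**, without the last field of `Nd` -/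
theorem rk_of_sl {k : Type} [Field k] {x : I → ℤ} {Φ : Matrix.SpecialLinearGroup (Fin 2) k →* Y}
    (up : ∀ g, g ∈ zc (X x) ↔ ∃ t, g = Φ (uu t)) (hw : Φ ww ∈ NN cs R.nsys) (hx : cj (Φ ww) (X x) = X (-x))
    (tor : ∀ c, Φ (dd c) ∈ T) : Rk R x := by
  intro y hy h1
  rw [← cj_zc hx, mem_cj, up] at hy
  obtain ⟨t, ht⟩ := hy
  have h2 : y = Φ (ww * uu t * ww⁻¹) := by rw [map_mul, map_mul, map_inv, ← ht]; group
  have h3 : t ≠ 0 := by
    rintro rfl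
    exact h1 (by rw [h2, uu_zero, mul_one, mul_inv_cancel, map_one])
  obtain ⟨c, rfl⟩ : ∃ c : kˣ, ((c⁻¹ : kˣ) : k) = t := ⟨(Units.mk0 _ h3)⁻¹, rfl⟩
  refine ⟨_, (up _).2 ⟨c, rfl⟩, _, (up _).2 ⟨c, rfl⟩, ?_⟩
  rw [h2, ww_conj, ← map_mul, ← map_mul, show uu (c : k) * (uu (-(c : k)) * dd c * ww * uu (-(c : k))) * uu (c : k) =
    (uu (c : k) * uu (-(c : k))) * (dd c * ww) * (uu (-(c : k)) * uu (c : k)) by simp only [mul_assoc], uu_mul, uu_mul,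
    add_neg_cancel, neg_add_cancel, uu_zero, one_mul, mul_one, map_mul]
  exact mul_mem ⟨1, rp_of_mem (tor c)⟩ hw

theorem rk_of_nd {k : Type} [Field k] {x : I → ℤ} {Φ : Matrix.SpecialLinearGroup (Fin 2) k →* Y} (N : Nd R x Φ) :
    Rk R x := rk_of_sl N.up (N.ref.imp fun _ h => h.1) N.cj_ww.1 N.tor

/-- a frame of abelian root groups -/
theorem f1_of_LC (hp : p.Prime) (hp2 : p ≠ 2) (hG : GG cs h T X = ⊤) (hr : ∀ a, IsRoot cs h (β a))
    (ho : ∀ a b, a ≠ b → LC X (β a) (β b)) (hc : ∀ a, ∀ u ∈ X (β a), ∀ v ∈ X (β a), u * v = v * u) : F1 R β :=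
  ⟨hp, hp2, hG, hr, fun a => rk_of_comm R (hr a) (hc a), fun a b hab u hu v hv => ho a b hab u (LZ_le _ hu) v (LZ_le _ hv)⟩

theorem f1_of_frameData (hp : p.Prime) (hp2 : p ≠ 2) (hG : GG cs h T X = ⊤) {P : Subgroup W}
    (F : FrameData cs h X β P) (hc : ∀ a, ∀ u ∈ X (β a), ∀ v ∈ X (β a), u * v = v * u) : F1 R β :=
  f1_of_LC hp hp2 hG F.root F.orth hc

/-! ### the torus -/

theorem nf_of_noFix (R : RGD cs h p T n X) (hc : ∀ a ∈ T, ∀ b ∈ T, a * b = b * a) (hnf : H69.OQ.NoFix cs h T X) {Γ : Subgroup (MulAut Y)}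
    (hΓ : ∀ t ∈ T, MulAut.conj t ∈ Γ) : NF cs h X Γ := by
  refine ⟨Cj (T2 hc), ?_, (isPGroup_T2 hc).map _, ?_, fun x hx u hu h1 => hnf x hx u hu fun t ht hk => ?_⟩
  · rintro _ ⟨t, ht, rfl⟩
    exact hΓ t ht.1
  · rintro _ ⟨t, ht, rfl⟩ x hx
    exact fix_conj.2 (mem_normalizer_iff_cj.2 (R.tor x hx t ht.1))
  · exact mul_inv_eq_iff_eq_mul.1 (h1 _ ⟨t, ⟨ht, hk⟩, rfl⟩)

theorem T_le_MM : T ≤ MM R β := (T_le_NP R).trans le_sup_right

/-- **(F2)** from the odd index and `AllDG Y` -/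
theorem syl_of_dg (hG : GG cs h T X = ⊤) (hc : ∀ a ∈ T, ∀ b ∈ T, a * b = b * a) (hnf : H69.OQ.NoFix cs h T X)
    (hf : H684.OQ.TWFaithful cs T n R.nsys) (ho : Odd (MM R β).index)
    (hdg : ∀ Q : Sylow 2 Y, ∀ y ∈ normalizer ((Q : Subgroup Y) : Set Y), Odd (orderOf y) →
      y ∈ centralizer ((Q : Subgroup Y) : Set Y)) :
    ∃ Q : Sylow 2 Y, normalizer ((Q : Subgroup Y) : Set Y) ≤ MM R β := by
  obtain ⟨P, h1, h2, h3, h4⟩ := H55.Sd.exists_syl (H := MM R β) (H381.OQ.isPGroup_twoT (hc := hc))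
    fun t ht => T_le_MM ht.1
  have h5 : ¬ 2 ∣ P.index := by
    rw [← even_iff_two_dvd, Nat.not_even_iff_odd, ← relIndex_mul_index h1]
    exact h4.mul ho
  refine ⟨h3.toSylow h5, fun g hg => ?_⟩
  obtain ⟨a, k, j, hj, h6, h7⟩ := exists_parts g
  have h8 : g ^ a ∈ MM R β := by
    have h9 : IsPGroup 2 (zpowers (g ^ a)) := by
      rintro ⟨_, m, rfl⟩
      refine ⟨k, Subtype.ext ?_⟩
      show ((g ^ a) ^ m) ^ 2 ^ k = 1
      rw [← zpow_natCast, ← zpow_mul, mul_comm, zpow_mul, zpow_natCast, h6, one_zpow]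
    exact h1 ((h9.inf_normalizer_sylow (h3.toSylow h5)).le ⟨mem_zpowers _, pow_mem hg a⟩).2
  have h9 : Odd (orderOf ((g ^ a)⁻¹ * g)) := hj.of_dvd_nat (orderOf_dvd_of_pow_eq_one h7)
  exact ((MM R β).mul_mem_cancel_left (inv_mem h8)).1 (T_le_MM (H381.OQ.mem_T_of_cent R hG hnf (hc := hc) hf
    (centralizer_le h2 (hdg _ _ (mul_mem (inv_mem (pow_mem hg a)) hg) h9)) h9))

/-- (F2) if the Sylow subgroups are self normalising -/
theorem syl_of_self (ho : Odd (MM R β).index)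
    (hs : ∀ Q : Sylow 2 Y, normalizer ((Q : Subgroup Y) : Set Y) ≤ Q) :
    ∃ Q : Sylow 2 Y, normalizer ((Q : Subgroup Y) : Set Y) ≤ MM R β := by
  obtain ⟨P, h1, -, h3, h4⟩ := H55.Sd.exists_syl (H := MM R β) IsPGroup.of_bot bot_le
  have h5 : ¬ 2 ∣ P.index := by
    rw [← even_iff_two_dvd, Nat.not_even_iff_odd, ← relIndex_mul_index h1]
    exact h4.mul ho
  exact ⟨h3.toSylow h5, (hs _).trans h1⟩

theorem odd_MM_of_le {P : Subgroup W} (hP : ∀ w ∈ P, ∀ a, ∃ b, rep cs h w (β a) = β b ∨ rep cs h w (β a) = -β b)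
    (ho : Odd ((⨆ a, LZ X (β a)) ⊔ NP R P).index) : Odd (MM R β).index :=
  ho.of_dvd_nat (index_dvd_of_le (sup_le_sup_left (H491.Sd.NP_mono R hP) _))

theorem odd_MM_of_MF {P : Subgroup W} (F : FrameData cs h X β P)
    (hc : ∀ a, ∀ u ∈ X (β a), ∀ v ∈ X (β a), u * v = v * u) (ho : Odd (H491.Sd.MF R β P).index) :
    Odd (MM R β).index :=
  odd_MM_of_le F.perm (by rw [iSup_congr fun a => LZ_eq R (F.root a) (hc a)]; exact ho)

/-! ### the structure of `MM` -/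

theorem center_le_T (R : RGD cs h p T n X) (hG : GG cs h T X = ⊤) : center Y ≤ T := fun z hz => by
  have h1 := normalizer_U' (opp R) (by rw [GG_opp, hG])
  rw [U_opp, B_opp] at h1
  rw [← B_inf_BN R, ← normalizer_U' R hG, ← h1]
  exact ⟨center_le_normalizer _ hz, center_le_normalizer _ hz⟩

variable (R) in
theorem in_Cj (hG : GG cs h T X = ⊤) : In (Cj (NN cs R.nsys)) = NN cs R.nsys := by
  have h1 := In_sup (Θ := ⊥) (H := NN cs R.nsys) (fun α hα x hx => by rw [mem_bot.1 hα]; exact hx) fun z hz =>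
    ⟨1, rp_of_mem (center_le_T R hG (mem_center_iff.2 fun g => by
      have h2 : MulAut.conj z g = g := by rw [mem_bot.1 hz]; rfl
      exact (mul_inv_eq_iff_eq_mul.1 h2).symm))⟩
  rwa [sup_bot_eq] at h1

theorem F1.congr {β' : ι → I → ℤ} (e : ∀ a, β' a = β a ∨ β' a = -β a) (F : F1 R β) : F1 R β' :=
  ⟨F.prime, F.odd, F.top, root_congr e F.root, rk_congr F.prime e F.root F.rk,
    fun a b hab => by rw [LZ_congr e, LZ_congr e]; exact F.orth a b hab⟩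

theorem F1.fm (F : F1 R β) (h0 : ∀ a, 0 ≤ β a) :
    Fm (RGD.Sup X (RGD.Pos cs h)) (In (Cj (NN cs R.nsys))) (Zr X β) :=
  (in_Cj R F.top).symm ▸ fm_of F.prime F.root h0 F.rk F.orth

theorem F1.cover (F : F1 R β) (h0 : ∀ a, 0 ≤ β a) {g : Y} (hg : g ∈ MM R β) :
    ∃ u ∈ UD (Zr X β), ∃ k ∈ NP R (WD cs h β), ∃ v ∈ UD (Zr X β), g = u * k * v := by
  rw [← MM_eq F.prime F.root (in_Cj R F.top) (F.fm h0)] at hg
  rw [← in_eq F.prime F.root (F.fm h0).inj (in_Cj R F.top)]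
  exact (F.fm h0).py.cover g hg

theorem F1.MM_inf_N (F : F1 R β) : MM R β ⊓ NN cs R.nsys = NP R (WD cs h β) := by
  obtain ⟨β', e, h0⟩ := exists_pos' F.root
  rw [← MM_congr e, ← WD_congr e]
  refine le_antisymm (fun g hg => ?_) (le_inf le_sup_right (NP_le R _))
  obtain ⟨u, hu, k, hk, v, hv, e1⟩ := (F.congr e).cover h0 hg.1
  rwa [← uniq_N R k (NP_le R _ hk) g hg.2 u (((F.congr e).fm h0).UD_le hu) v (((F.congr e).fm h0).UD_le hv) e1.symm]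

theorem F1.MM_inf_U (F : F1 R β) (h0 : ∀ a, 0 ≤ β a) : MM R β ⊓ RGD.Sup X (RGD.Pos cs h) = UD (Zr X β) := by
  refine le_antisymm (fun g hg => ?_) (le_inf ?_ (F.fm h0).UD_le)
  · obtain ⟨u, hu, k, hk, v, hv, e1⟩ := F.cover h0 hg.1
    have h1 := uniq_N R 1 (one_mem _) k (NP_le R _ hk) _ (mul_mem (inv_mem ((F.fm h0).UD_le hu)) hg.2) _
      (inv_mem ((F.fm h0).UD_le hv)) (by rw [e1]; group)
    rw [e1, ← h1, mul_one]
    exact mul_mem hu hv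
  · rw [← MM_eq F.prime F.root (in_Cj R F.top) (F.fm h0)]
    exact le_sup_left

theorem F1.ne_of_WD (F : F1 R β) (hW : WD cs h β ≠ ⊤) : MM R β ≠ ⊤ := fun h1 => hW (eq_top_iff.2 fun w _ => by
  obtain ⟨g, hg⟩ := exists_rp cs R.nsys w
  obtain ⟨v, hv, h2⟩ := F.MM_inf_N.le ⟨h1 ▸ mem_top g, w, hg⟩
  rwa [rp_eq R hg h2])

/-- `U` is not abelian -/
theorem F1.ne_of_comm (F : F1 R β)
    (hU : ∃ u ∈ RGD.Sup X (RGD.Pos cs h), ∃ v ∈ RGD.Sup X (RGD.Pos cs h), u * v ≠ v * u) : MM R β ≠ ⊤ := fun h1 => by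
  obtain ⟨β', e, h0⟩ := exists_pos' F.root
  have h2 := (F.congr e).MM_inf_U h0
  rw [MM_congr e, h1, top_inf_eq] at h2
  obtain ⟨u, hu, v, hv, h3⟩ := hU
  rw [h2] at hu hv
  have h4 : ∀ a, UD (Zr X β') ≤ centralizer (Zr X β' (a, true) : Set Y) := fun a => iSup_le fun b y hy x hx => by
    by_cases hab : a = b
    · subst hab
      exact hy.2 x hx.1
    · exact ((F.congr e).orth a b hab x (mem_sup_left hx) y (mem_sup_left hy)).eq
  have h5 : UD (Zr X β') ≤ centralizer (UD (Zr X β') : Set Y) := iSup_le fun a x hx y hy => (h4 a hy x hx).symm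
  exact h3 (h5 hv u hu)

/-- a root group is not abelian -/
theorem F1.ne_of_root (F : F1 R β) {x : I → ℤ} (hx : IsRoot cs h x) (hU : ∃ u ∈ X x, ∃ v ∈ X x, u * v ≠ v * u) :
    MM R β ≠ ⊤ := by
  refine F.ne_of_comm (by_contra fun h1 => ?_)
  obtain ⟨w, i, rfl⟩ := hx
  obtain ⟨u, hu, v, hv, h2⟩ := hU
  exact h2 (comm_conj R (isRoot_sr cs h i)
    (fun a ha b hb => by_contra fun h3 => h1 ⟨a, X_le_U R i ha, b, X_le_U R i hb, h3⟩) w u hu v hv)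

theorem F1.ne_of_empty [IsEmpty ι] [Nonempty I] (F : F1 R β) : MM R β ≠ ⊤ := fun h1 => by
  have h2 := F.MM_inf_U isEmptyElim
  rw [h1, top_inf_eq] at h2
  obtain ⟨u, hu, h3⟩ := exists_ne_one R (Classical.arbitrary I)
  exact h3 (mem_bot.1 ((iSup_le isEmptyElim : UD (Zr X β) ≤ ⊥) (h2.le (X_le_U R _ hu))))

/-- a simple group and at least two roots -/
theorem F1.ne_of_two [IsSimpleGroup Y] (F : F1 R β) {a b : ι} (hab : a ≠ b) : MM R β ≠ ⊤ := fun h1 => by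
  have h2 : ∀ a, LZ X (β a) ≠ ⊥ := fun a h => zc_ne_bot R F.prime (F.root a) (eq_bot_iff.2 (le_sup_left.trans h.le))
  have h3 : (⨆ a, LZ X (β a)).Normal := by
    rw [← normalizer_eq_top_iff, eq_top_iff, ← h1]
    refine sup_le le_normalizer ?_
    rintro g ⟨w, hw, hg⟩
    refine mem_normalizer_fintype fun y hy => ?_
    refine (iSup_le fun c => ?_ : (⨆ a, LZ X (β a)) ≤ (⨆ a, LZ X (β a)).comap (MulAut.conj g).toMonoidHom) hy
    obtain ⟨d, hd⟩ := hw c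
    have h4 : cj g (LZ X (β c)) = LZ X (rep cs h w (β c)) := by
      show cj g (_ ⊔ _) = _ ⊔ _
      rw [cj_sup, cj_zc (R.conj_rp hg (F.root c)), cj_zc (R.conj_rp hg (F.root c).neg), map_neg]
    rw [show LZ X (rep cs h w (β c)) = LZ X (β d) from hd.elim (fun e => by rw [e]) fun e => by rw [e, LZ_neg]] at h4
    exact fun y hy => le_iSup (fun a => LZ X (β a)) d (h4 ▸ conj_mem_cj.2 hy)
  have h4 : (⨆ a, LZ X (β a)) = ⊤ :=
    h3.eq_bot_or_eq_top.resolve_left fun h => h2 a (eq_bot_iff.2 ((le_iSup (fun a => LZ X (β a)) a).trans h.le))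
  have h5 : ∀ c, LZ X (β c) = ⊤ := fun c => by
    refine (Normal.eq_bot_or_eq_top ?_).resolve_left (h2 c)
    rw [← normalizer_eq_top_iff, eq_top_iff, ← h4]
    refine iSup_le fun d => ?_
    by_cases hd : d = c
    · rw [hd]; exact le_normalizer
    · exact fun g hg => centralizer_le_normalizer _ fun y hy => (F.orth c d (Ne.symm hd) y hy g hg).eq
  obtain ⟨m, -, -, h6, -⟩ := (F.rk a).exists_m F.prime (F.root a)
  refine X_ne_bot R (F.root a) (eq_bot_iff.2 fun y hy => ?_)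
  rw [← X_inf_X R (F.root a) (F.root a).neg (H491.Sd.root_ne_neg (F.root a))]
  have h7 : m * y * m⁻¹ ∈ X (-β a) := h6 ▸ conj_mem_cj.2 hy
  rw [(F.orth a b hab m (h5 a ▸ mem_top m) y (h5 b ▸ mem_top y)).eq, mul_inv_cancel_right] at h7
  exact ⟨hy, h7⟩

end Cfsg.Agent.MK.G
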