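import Cfsg.Agent.MK.G.Main

/-!
# MK-G: tools, the Weyl group (helper76)

* `F1 R β` : the first six fields of `GD`; `F1.gd`;
* `Od cs h x y` : the product of the two reflections is not a `2`-element; `od_of_B`, `od_of_mat`, `od_of_symm`,
  `od_of_root`, `od_of_orbit`;
* `weyl_of_top`, `F1.weyl_of_od`, `F1.weyl_of_all`, `odd_WD`;
* `au_of_pm`, `au_of_one`, `au_of_root`, `au_of_comp`, `F1.au_of_all`.
-/

set_option autoImplicit false
set_option linter.unusedSectionVars false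

namespace Cfsg.Agent.MK.G

open Cfsg Subgroup CoxeterSystem Cfsg.Agent.ChevalleyStructure.CoxeterGeom Cfsg.Agent.Tits.Roots Cfsg.Agent.Nodes.Reps
  Cfsg.Agent.Nodes.BNOf Cfsg.Agent.Nodes.Bruhat Cfsg.Agent.KFacts.RgdAut Cfsg.Agent.KFacts.RgdDiag
  Cfsg.Agent.ClosedExc.Frame Cfsg.Agent.ODD.QB

variable {I W Y ι : Type} [Fintype I] [DecidableEq I] [Group W] [Finite W] [Group Y] [Finite Y] [Fintype ι]
  {M : CoxeterMatrix I} {cs : CoxeterSystem M W} {A : I → I → ℤ} {h : IsCartan M A} {p : ℕ} {T : Subgroup Y}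
  {n : I → Y} {X : (I → ℤ) → Subgroup Y} {β : ι → I → ℤ}

/-! ### angles -/

/-- the product of the reflections in `x` and `y` is not a `2`-element -/
def Od (cs : CoxeterSystem M W) (h : IsCartan M A) (x y : I → ℤ) : Prop :=
  ∀ r s, IsRefl cs h x r → IsRefl cs h y s → ∀ k : ℕ, (r * s) ^ 2 ^ k ≠ 1

section form

variable {B : (I → ℤ) → (I → ℤ) → ℤ} (hs : ∀ x y, B x y = B y x)
  (hl : ∀ x y z (c : ℤ), B x (y - c • z) = B x y - c * B x z)
  (hi : ∀ i y, B (sr i) (sr i) * pairing A i y = 2 * B (sr i) y)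

include hs hl hi

theorem B_rep (w : W) (x y : I → ℤ) : B (rep cs h w x) (rep cs h w y) = B x y := by
  obtain ⟨ω, rfl⟩ := cs.wordProd_surjective w
  induction ω with
  | nil => rw [wordProd_nil, map_one, Module.End.one_apply, Module.End.one_apply]
  | cons i ω ih =>
    rw [wordProd_cons, rep_mul_apply, rep_mul_apply, ← ih]
    generalize rep cs h (cs.wordProd ω) x = u
    generalize rep cs h (cs.wordProd ω) y = v
    rw [rep_simple_eq, rep_simple_eq, hl, hs _ v, hs _ (sr i), hl, hl, hs v u, hs v]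
    have h1 := hi i u
    have h2 := hi i v
    have h3 : 2 * (pairing A i u * B (sr i) v + pairing A i v * (B (sr i) u - pairing A i u * B (sr i) (sr i))) = 0 := by
      linear_combination (-pairing A i u) * h2 - pairing A i v * h1
    linarith

theorem refl_B {x : I → ℤ} {r : W} (hr : IsRefl cs h x r) (y : I → ℤ) :
    ∃ c : ℤ, rep cs h r y = y - c • x ∧ B x x * c = 2 * B x y := by
  obtain ⟨v, i, rfl, rfl⟩ := hr
  refine ⟨pairing A i (rep cs h v⁻¹ y), ?_, ?_⟩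
  · rw [rep_mul_apply, rep_mul_apply, rep_simple_eq, map_sub, map_smul, rep_apply_inv]
  · rw [B_rep hs hl hi, hi, ← B_rep (cs := cs) (h := h) hs hl hi v, rep_apply_inv]

/-- **An angle of `60` or `120` degrees.** -/
theorem od_of_B {x y : I → ℤ} (h0 : B x x ≠ 0) (h1 : B y y = B x x) (h2 : 2 * B x y = B x x ∨ 2 * B x y = -B x x) :
    Od cs h x y := by
  intro r s hr hs' k hk
  obtain ⟨e, he, h3⟩ : ∃ e : ℤ, e * e = 1 ∧ 2 * B x y = B x x * e :=
    h2.elim (fun h => ⟨1, rfl, by rw [h, mul_one]⟩) fun h => ⟨-1, rfl, by rw [h, mul_neg_one]⟩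
  have h4 : ∀ {z : I → ℤ} {t : W}, IsRefl cs h z t → rep cs h t z = -z := by
    rintro _ _ ⟨v, i, rfl, rfl⟩
    rw [rep_mul_apply, rep_inv_apply, rep_mul_apply, rep_simple_sr, map_neg]
  obtain ⟨c, hc, hc'⟩ := refl_B hs hl hi hr y
  obtain ⟨d, hd, hd'⟩ := refl_B hs hl hi hs' x
  obtain rfl : c = e := mul_left_cancel₀ h0 (hc'.trans h3)
  obtain rfl : d = c := mul_left_cancel₀ h0 (by rw [← h3, hs x y, ← hd', h1])
  have e1 : rep cs h (r * s) x = -d • y := by
    rw [rep_mul_apply, hd, map_sub, map_smul, h4 hr, hc, smul_sub, smul_smul, he, one_smul, neg_smul]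
    abel
  have e2 : rep cs h (r * s) y = -y + d • x := by
    rw [rep_mul_apply, h4 hs', map_neg, hc]
    abel
  have e3 : rep cs h ((r * s) ^ 2) x = d • y - x := by
    rw [pow_two, rep_mul_apply, e1, map_smul, e2, smul_add, smul_smul, neg_mul, he, smul_neg, neg_smul, neg_neg,
      neg_smul, one_smul, sub_eq_add_neg]
  have e4 : ∀ m : ℕ, rep cs h ((r * s) ^ (3 * m)) x = x := fun m => by
    induction m with
    | zero => rw [mul_zero, pow_zero, map_one, Module.End.one_apply]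
    | succ m ih =>
      rw [mul_add, mul_one, pow_add, rep_mul_apply, pow_succ' _ 2, rep_mul_apply, e3, map_sub, map_smul, e1, e2, smul_add,
        smul_smul, he, one_smul, smul_neg, neg_smul, sub_neg_eq_add, neg_add_cancel_comm, ih]
  have h5 : ∀ j : ℕ, (r * s) ^ (3 * (2 ^ k / 3) + j) = 1 → rep cs h ((r * s) ^ j) x = x := fun j hj => by
    rw [add_comm, pow_add] at hj
    rw [← e4 (2 ^ k / 3), ← rep_mul_apply, hj, e4, map_one, Module.End.one_apply]
  have h6 : 2 ^ k % 3 = 1 ∨ 2 ^ k % 3 = 2 := by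
    have h7 : ¬ 3 ∣ 2 ^ k := fun h7 => absurd (Nat.prime_three.dvd_of_dvd_pow h7) (by decide)
    omega
  have h7 : B x 0 = 0 := by
    have h8 := hl x x x 1
    rwa [one_smul, sub_self, one_mul, sub_self] at h8
  rw [← Nat.div_add_mod (2 ^ k) 3] at hk
  rcases h6 with h6 | h6 <;> rw [h6] at hk
  · have h8 := h5 1 hk
    rw [pow_one, e1] at h8
    have h9 := hl x 0 y d
    rw [zero_sub, ← neg_smul, h8, h7] at h9
    have h10 : 3 * B x x = 0 := by linear_combination 2 * h9 - d * h3 - B x x * he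
    exact h0 (by linarith)
  · have h8 := h5 2 hk
    rw [e3] at h8
    have h9 := hl x x y d
    rw [show x - d • y = 0 - (1 : ℤ) • x by rw [one_smul, zero_sub, ← neg_sub, h8], hl, h7] at h9
    have h10 : 3 * B x x = 0 := by linear_combination (-2) * h9 + d * h3 + B x x * he
    exact h0 (by linarith)

/-- three vectors of the same length -/
theorem od_of_B' {x y : I → ℤ} (h0 : B x x ≠ 0) (h1 : B y y = B x x)
    (h2 : B (x + y) (x + y) = B x x ∨ B (x - y) (x - y) = B x x) : Od cs h x y := by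
  have h3 : ∀ c : ℤ, B (x - c • y) (x - c • y) = B x x - 2 * c * B x y + c * c * B y y := fun c => by
    rw [hl, hs _ x, hs _ y, hl, hl, hs y x]
    ring
  refine od_of_B hs hl hi h0 h1 (h2.symm.imp (fun h4 => ?_) fun h4 => ?_)
  · have h5 := h3 1
    rw [one_smul, h4, h1] at h5
    linarith
  · have h5 := h3 (-1)
    rw [neg_one_smul, sub_neg_eq_add, h4, h1] at h5
    linarith

end form

/-- the form of a matrix -/
def bf (C : I → I → ℤ) (x y : I → ℤ) : ℤ := ∑ i, x i * ∑ j, C i j * y j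

theorem bf_comm {C : I → I → ℤ} (hC : ∀ i j, C i j = C j i) (x y : I → ℤ) : bf C x y = bf C y x := by
  simp only [bf, Finset.mul_sum]
  rw [Finset.sum_comm]
  exact Finset.sum_congr rfl fun i _ => Finset.sum_congr rfl fun j _ => by rw [hC j i]; ring

theorem bf_sub (C : I → I → ℤ) (x y z : I → ℤ) (c : ℤ) : bf C x (y - c • z) = bf C x y - c * bf C x z := by
  simp only [bf, Finset.mul_sum, ← Finset.sum_sub_distrib, Pi.sub_apply, Pi.smul_apply, smul_eq_mul]
  exact Finset.sum_congr rfl fun i _ => Finset.sum_congr rfl fun j _ => by ring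

theorem bf_sr (C : I → I → ℤ) (i : I) (y : I → ℤ) : bf C (sr i) y = ∑ j, C i j * y j := by
  rw [bf, Finset.sum_eq_single i, sr_self, one_mul]
  · intro j _ hj
    rw [sr_ne hj, zero_mul]
  · exact fun h => absurd (Finset.mem_univ i) h

theorem bf_sr_sr (C : I → I → ℤ) (i : I) : bf C (sr i) (sr i) = C i i := by
  rw [bf_sr, Finset.sum_eq_single i, sr_self, mul_one]
  · intro j _ hj
    rw [sr_ne hj, mul_zero]
  · exact fun h => absurd (Finset.mem_univ i) h

theorem bf_inv {C : I → I → ℤ} (hA : ∀ i j, C i i * A i j = 2 * C i j) (i : I) (y : I → ℤ) :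
    bf C (sr i) (sr i) * pairing A i y = 2 * bf C (sr i) y := by
  show _ * ∑ k, A i k * y k = _
  rw [bf_sr_sr, bf_sr, Finset.mul_sum, Finset.mul_sum]
  exact Finset.sum_congr rfl fun j _ => by rw [← mul_assoc, hA, mul_assoc]

/-- the form is invariant -/
theorem bf_rep {C : I → I → ℤ} (hC : ∀ i j, C i j = C j i) (hA : ∀ i j, C i i * A i j = 2 * C i j) (w : W)
    (x y : I → ℤ) : bf C (rep cs h w x) (rep cs h w y) = bf C x y :=
  B_rep (bf_comm hC) (bf_sub C) (bf_inv hA) w x y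

/-- with a symmetrised Cartan matrix `C` -/
theorem od_of_mat {C : I → I → ℤ} (hC : ∀ i j, C i j = C j i) (hA : ∀ i j, C i i * A i j = 2 * C i j) {x y : I → ℤ}
    (h0 : bf C x x ≠ 0) (h1 : bf C y y = bf C x x) (h2 : 2 * bf C x y = bf C x x ∨ 2 * bf C x y = -bf C x x) :
    Od cs h x y := od_of_B (bf_comm hC) (bf_sub C) (bf_inv hA) h0 h1 h2

theorem bf_root (hA : ∀ i j, A i j = A j i) {x : I → ℤ} (hx : IsRoot cs h x) : bf A x x = 2 := by
  obtain ⟨w, i, rfl⟩ := hx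
  rw [bf_rep hA fun i j => by rw [h.diag], bf_sr_sr, h.diag]

/-- the simply laced case -/
theorem od_of_symm (hA : ∀ i j, A i j = A j i) {x y : I → ℤ} (hx : IsRoot cs h x) (hy : IsRoot cs h y)
    (h2 : bf A x y = 1 ∨ bf A x y = -1) : Od cs h x y :=
  od_of_mat hA (fun i j => by rw [h.diag]) (by rw [bf_root hA hx]; decide) (by rw [bf_root hA hx, bf_root hA hy])
    (by rw [bf_root hA hx]; omega)

/-- the simply laced case -/
theorem od_of_root (hA : ∀ i j, A i j = A j i) {x y : I → ℤ} (hx : IsRoot cs h x) (hy : IsRoot cs h y)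
    (h2 : IsRoot cs h (x + y) ∨ IsRoot cs h (x - y)) : Od cs h x y :=
  od_of_B' (bf_comm hA) (bf_sub A) (bf_inv fun i j => by rw [h.diag]) (by rw [bf_root hA hx]; decide)
    (by rw [bf_root hA hx, bf_root hA hy]) (h2.imp (fun h3 => by rw [bf_root hA hx, bf_root hA h3])
      fun h3 => by rw [bf_root hA hx, bf_root hA h3])

/-- `x`, `y` and `x + y` or `x - y` are in one orbit -/
theorem od_of_orbit {x y : I → ℤ} (hx : x ≠ 0) (h1 : ∃ v, rep cs h v x = y)
    (h2 : ∃ v, rep cs h v x = x + y ∨ rep cs h v x = x - y) : Od cs h x y := by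
  have := Fintype.ofFinite W
  obtain ⟨v, rfl⟩ := h1
  obtain ⟨u, hu⟩ := h2
  exact od_of_B' (form_comm cs h) (fun x y z c => by rw [form_sub_right, form_smul_right])
    (fun i y => by rw [form_comm cs h (sr i) y, two_form, mul_comm]) (form_pos cs h hx).ne' (form_rep cs h v x x)
    (hu.imp (fun e => by rw [← e, form_rep]) fun e => by rw [← e, form_rep])

/-! ### the Weyl group -/

theorem weyl_of_top (hW : WD cs h β = ⊤) :
    ∃ S : Sylow 2 W, normalizer ((S : Subgroup W) : Set W) ≤ WD cs h β := ⟨default, hW ▸ le_top⟩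

theorem odd_WD (hW : ∃ S : Sylow 2 W, normalizer ((S : Subgroup W) : Set W) ≤ WD cs h β) : Odd (WD cs h β).index := by
  obtain ⟨S, hS⟩ := hW
  rw [← Nat.not_even_iff_odd, even_iff_two_dvd]
  exact fun h2 => S.not_dvd_index (h2.trans (index_dvd_of_le (le_normalizer.trans hS)))

/-- the first six fields of `GD` -/
structure F1 (R : RGD cs h p T n X) (β : ι → I → ℤ) : Prop where
  prime : p.Prime
  odd : p ≠ 2
  top : GG cs h T X = ⊤
  root : ∀ a, IsRoot cs h (β a)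
  rk : ∀ a, Rk R (β a)
  orth : ∀ a b, a ≠ b → ∀ u ∈ LZ X (β a), ∀ v ∈ LZ X (β b), Commute u v

variable {R : RGD cs h p T n X}

theorem F1.gd (F : F1 R β) (hW : ∃ S : Sylow 2 W, normalizer ((S : Subgroup W) : Set W) ≤ WD cs h β)
    (hQ : ∃ Q : Sylow 2 Y, normalizer ((Q : Subgroup Y) : Set Y) ≤ MM R β) (hne : MM R β ≠ ⊤) : GD R β :=
  ⟨F.prime, F.odd, F.top, F.root, F.rk, F.orth, hW, hQ, hne⟩

theorem GD.f1 (D : GD R β) : F1 R β := ⟨D.prime, D.odd, D.top, D.root, D.rk, D.orth⟩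

/-- a Sylow subgroup which contains the reflections of the frame -/
theorem F1.exists_S (F : F1 R β) : ∃ S : Sylow 2 W, ∀ a r, IsRefl cs h (β a) r → r ∈ (S : Subgroup W) := by
  have h1 : ∀ a r, IsRefl cs h (β a) r → ∃ m ∈ LZ X (β a), Rp cs R.nsys r m := by
    rintro a _ ⟨v, i, e, rfl⟩
    obtain ⟨⟨y, hy⟩, h2⟩ := ne_bot_iff_exists_ne_one.1 (zc_ne_bot R F.prime (F.root a).neg)
    have h3 : y ≠ 1 := fun h => h2 (Subtype.ext h)
    obtain ⟨u, hu, u', hu', h4⟩ := F.rk a y hy h3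
    exact ⟨_, mul_mem (mul_mem (mem_sup_left hu) (mem_sup_right hy)) (mem_sup_left hu'),
      rp_of_low R (e ▸ hy.1) h3 (e ▸ hu.1) (e ▸ hu'.1) h4⟩
  have h2 : ∀ a r s, IsRefl cs h (β a) r → IsRefl cs h (β a) s → r = s := by
    rintro a _ _ ⟨v, i, e, rfl⟩ ⟨v', i', e', rfl⟩
    obtain ⟨⟨y, hy⟩, h2⟩ := ne_bot_iff_exists_ne_one.1 (zc_ne_bot R F.prime (F.root a).neg)
    have h3 : y ≠ 1 := fun h => h2 (Subtype.ext h)
    obtain ⟨u, hu, u', hu', h4⟩ := F.rk a y hy h3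
    exact rp_eq R (rp_of_low R (e ▸ hy.1) h3 (e ▸ hu.1) (e ▸ hu'.1) h4)
      (rp_of_low R (e' ▸ hy.1) h3 (e' ▸ hu.1) (e' ▸ hu'.1) h4)
  have h3 : closure {r | ∃ a, IsRefl cs h (β a) r} ≤ centralizer {r | ∃ a, IsRefl cs h (β a) r} := by
    rw [closure_le]
    rintro r ⟨a, hr⟩ s ⟨b, hs⟩
    by_cases hab : b = a
    · rw [h2 a r s hr (hab ▸ hs)]
    · obtain ⟨m, hm, h4⟩ := h1 a r hr
      obtain ⟨m', hm', h5⟩ := h1 b s hs
      exact rp_eq R (h5.mul h4) ((F.orth b a hab m' hm' m hm).eq ▸ h4.mul h5)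
  have h4 : closure {r | ∃ a, IsRefl cs h (β a) r} ≤ centralizer (closure {r | ∃ a, IsRefl cs h (β a) r} : Set W) := by
    rw [closure_le]
    exact fun r hr s hs => (h3 hs r hr).symm
  have h5 : IsPGroup 2 (closure {r | ∃ a, IsRefl cs h (β a) r}) := by
    rintro ⟨g, hg⟩
    refine ⟨1, Subtype.ext ?_⟩
    show g ^ 2 ^ 1 = 1
    induction hg using closure_induction with
    | mem r hr =>
      obtain ⟨a, v, i, -, rfl⟩ := hr
      rw [conj_pow, pow_one, cs.simple_sq, mul_one, mul_inv_cancel]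
    | one => exact one_pow _
    | mul a b ha hb h6 h7 => rw [Commute.mul_pow (h4 hb a ha), h6, h7, one_mul]
    | inv a _ h6 => rw [inv_pow, h6, inv_one]
  obtain ⟨S, hS⟩ := h5.exists_le_sylow
  exact ⟨S, fun a r hr => hS (subset_closure ⟨a, hr⟩)⟩

theorem not_od {S : Sylow 2 W} {x y : I → ℤ} {r s : W} (hr : IsRefl cs h x r) (hs : IsRefl cs h y s)
    (h1 : r ∈ (S : Subgroup W)) (h2 : s ∈ (S : Subgroup W)) : ¬ Od cs h x y := fun H => by
  obtain ⟨k, hk⟩ := S.isPGroup' ⟨_, mul_mem h1 h2⟩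
  exact H r s hr hs k (congrArg Subtype.val hk)

theorem exists_isRefl {x : I → ℤ} (hx : IsRoot cs h x) : ∃ r, IsRefl cs h x r :=
  let ⟨v, i, e⟩ := hx
  ⟨_, v, i, e, rfl⟩

/-- **(F3)**, no counting is needed -/
theorem F1.weyl_of_od (F : F1 R β) (H : ∀ w, w ∉ WD cs h β → ∃ a b, Od cs h (rep cs h w (β a)) (β b)) :
    ∃ S : Sylow 2 W, normalizer ((S : Subgroup W) : Set W) ≤ WD cs h β := by
  obtain ⟨S, hS⟩ := F.exists_S
  refine ⟨S, fun w hw => by_contra fun h1 => ?_⟩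
  obtain ⟨a, b, h2⟩ := H w h1
  obtain ⟨v, i, e⟩ := F.root a
  obtain ⟨s, hs⟩ := exists_isRefl (F.root b)
  refine not_od (r := w * (v * cs.simple i * v⁻¹) * w⁻¹) ⟨w * v, i, by rw [e, rep_mul_apply], by group⟩ hs
    ((mem_normalizer_iff.1 hw _).1 (hS a _ ⟨v, i, e, rfl⟩)) (hS b s hs) h2

/-- every root is in the frame or has an odd angle with it (simply laced types, `G₂`) -/
def All (cs : CoxeterSystem M W) (h : IsCartan M A) (β : ι → I → ℤ) : Prop :=
  ∀ x, IsRoot cs h x → (∃ b, x = β b ∨ x = -β b) ∨ ∃ b, Od cs h x (β b)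

theorem F1.weyl_of_all (F : F1 R β) (H : All cs h β) :
    ∃ S : Sylow 2 W, normalizer ((S : Subgroup W) : Set W) ≤ WD cs h β := by
  refine F.weyl_of_od fun w hw => ?_
  obtain ⟨a, ha⟩ := not_forall.1 hw
  exact ⟨a, (H _ ((F.root a).act w)).resolve_left ha⟩

/-! ### automorphisms -/

theorem pm_of_PM (hr : ∀ a, IsRoot cs h (β a)) {γ : MulAut Y} (hγ : H491.Sd.PM cs h T X γ) : Pm X β γ := fun a =>
  ⟨a, hγ.root.imp (fun h1 => ⟨h1 _ (hr a), h1 _ (hr a).neg⟩) fun h1 => ⟨h1 _ (hr a), h1 _ (hr a).neg⟩⟩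

theorem au_of_pm (hr : ∀ a, IsRoot cs h (β a)) {Γ : Subgroup (MulAut Y)}
    (H : ∀ γ σ, Diag T X γ σ → ∃ g ∈ NN cs R.nsys, H491.Sd.PM cs h T X (MulAut.conj g * γ)) : Au R β Γ :=
  fun γ _ σ D => (H γ σ D).imp fun _ h1 => ⟨h1.1, pm_of_PM hr h1.2⟩

/-- the form of `H491.Sd.frames` -/
theorem au_of_pm' (hG : GG cs h T X = ⊤) (hno : H491.Sd.NoFix cs h T X) (hr : ∀ a, IsRoot cs h (β a))
    {Γ : Subgroup (MulAut Y)}
    (H : ∀ γ σ, Diag T X γ σ → ∃ g, H491.Sd.PM cs h T X (MulAut.conj g * γ)) : Au R β Γ :=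
  au_of_pm hr fun γ σ D => (H γ σ D).imp fun g h1 => ⟨H491.Sd.exists_rp_of_norm R hG hno (fix_conj.1 (by
    have h2 := h1.tor.mul D.tor.inv
    rwa [mul_inv_cancel_right] at h2)), h1⟩

theorem mv_conj {w : W} {g : Y} (hg : Rp cs R.nsys w g) {γ : MulAut Y} {x y : I → ℤ} (hy : IsRoot cs h y)
    (H : Mv X γ x y) : Mv X (MulAut.conj g * γ) x (rep cs h w y) :=
  ⟨fun z => by rw [← R.conj_rp hg hy, ← H.1]; exact conj_mem_cj,
    fun z => by rw [← map_neg, ← R.conj_rp hg hy.neg, ← H.2]; exact conj_mem_cj⟩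

theorem mv_of_diag {γ : MulAut Y} {σ : Equiv.Perm I} (D : Diag T X γ σ) (v : W) (i : I) :
    Mv X γ (rep cs h v (sr i)) (rep cs h (hat cs σ (D.matrix R) v) (sr (σ i))) := by
  refine ⟨D.root R _ v i, fun z => ?_⟩
  have h1 := D.root R (D.matrix R) (v * cs.simple i) i z
  rwa [map_mul, hat_simple, rep_mul_apply, rep_mul_apply, rep_simple_sr, rep_simple_sr, map_neg, map_neg] at h1

/-- by the action on the roots -/
theorem au_of_root {Γ : Subgroup (MulAut Y)}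
    (H : ∀ γ ∈ Γ, ∀ σ (D : Diag T X γ σ), ∃ w, ∀ a, ∃ b v i, β a = rep cs h v (sr i) ∧
      (rep cs h (w * hat cs σ (D.matrix R) v) (sr (σ i)) = β b ∨
        rep cs h (w * hat cs σ (D.matrix R) v) (sr (σ i)) = -β b)) : Au R β Γ := fun γ hγ σ D => by
  obtain ⟨w, hw⟩ := H γ hγ σ D
  obtain ⟨g, hg⟩ := exists_rp cs R.nsys w
  refine ⟨g, ⟨w, hg⟩, fun a => ?_⟩
  obtain ⟨b, v, i, e, h1⟩ := hw a
  have h2 := mv_conj (R := R) hg ((isRoot_sr cs h _).act _) (mv_of_diag (R := R) D v i)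
  rw [← rep_mul_apply, ← e] at h2
  exact ⟨b, h1.imp (fun e => by rwa [e] at h2) fun e => by rwa [e] at h2⟩

/-- if the permutations preserve the Cartan matrix -/
theorem au_of_comp (hr : ∀ a, IsRoot cs h (β a)) {Γ : Subgroup (MulAut Y)}
    (H : ∀ γ ∈ Γ, ∀ σ, Diag T X γ σ → (∀ i j, A (σ i) (σ j) = A i j) ∧
      ∃ w, ∀ a, ∃ b, rep cs h w (β a ∘ σ.symm) = β b ∨ rep cs h w (β a ∘ σ.symm) = -β b) : Au R β Γ :=
  au_of_root fun γ hγ σ D => by
    obtain ⟨hA, w, hw⟩ := H γ hγ σ D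
    refine ⟨w, fun a => ?_⟩
    obtain ⟨b, hb⟩ := hw a
    obtain ⟨v, i, e⟩ := hr a
    refine ⟨b, v, i, e, ?_⟩
    rwa [rep_mul_apply, ← sr_comp, rep_hat _ hA, ← e]

/-- no graph automorphisms -/
theorem au_of_one (hr : ∀ a, IsRoot cs h (β a)) {Γ : Subgroup (MulAut Y)}
    (H : ∀ γ ∈ Γ, ∀ σ, Diag T X γ σ → σ = 1) : Au R β Γ :=
  au_of_comp hr fun γ hγ σ D => by
    rw [H γ hγ σ D]
    exact ⟨fun _ _ => rfl, 1, fun a => ⟨a, Or.inl (by rw [map_one]; rfl)⟩⟩

/-- the Coxeter matrix has no symmetries -/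
theorem au_of_rigid (hr : ∀ a, IsRoot cs h (β a)) {Γ : Subgroup (MulAut Y)}
    (H : ∀ σ : Equiv.Perm I, (∀ i j, M (σ i) (σ j) = M i j) → σ = 1) : Au R β Γ :=
  au_of_one hr fun _ _ σ D => H σ (D.matrix R)

/-- **Simply laced types and `G₂`**: all graph automorphisms at once -/
theorem F1.au_of_all (F : F1 R β) (H : All cs h β) {Γ : Subgroup (MulAut Y)} : Au R β Γ := by
  obtain ⟨S, hS⟩ := F.exists_S
  refine au_of_root fun γ _ σ D => ?_
  obtain ⟨w, -, hw⟩ := H55.Sd.exists_conj_le (le_top : (S : Subgroup W) ≤ ⊤) S.isPGroup' (by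
    rw [relIndex_top_right, ← Nat.not_even_iff_odd, even_iff_two_dvd]
    exact S.not_dvd_index) le_top (S.isPGroup'.map (hat cs σ (D.matrix R)))
  refine ⟨w⁻¹, fun a => ?_⟩
  obtain ⟨v, i, e⟩ := F.root a
  obtain ⟨b, hb⟩ := (H _ ((isRoot_sr cs h (σ i)).act (w⁻¹ * hat cs σ (D.matrix R) v))).resolve_right (by
    rintro ⟨b, hb⟩
    obtain ⟨s, hs⟩ := exists_isRefl (F.root b)
    refine not_od ⟨_, _, rfl, rfl⟩ hs ?_ (hS b s hs) hb
    have h1 := hw _ ⟨_, hS a _ ⟨v, i, e, rfl⟩, rfl⟩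
    rw [map_mul, map_mul, map_inv, hat_simple] at h1
    rwa [← mul_assoc, ← mul_assoc, mul_assoc _ _ w, ← inv_inv w, ← mul_inv_rev, inv_inv w] at h1)
  exact ⟨b, v, i, e, hb⟩

end Cfsg.Agent.MK.G
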